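import Groth.Agent.EtRam7.ASStep
import Groth.Agent.EtRam7.IntBound
import Groth.Agent.Hensel.IntegralStrict
import Groth.Agent.GrpSchLib.Reduced
import Groth.Agent.S1983
import Mathlib

/-! Valuation-theoretic setting for eliminating ramification inside an algebraic closure. -/

set_option autoImplicit false
set_option linter.style.haveILetI false
set_option linter.unusedSectionVars false
universe u

namespace Groth.Agent.EtRam7.Epp

open IsLocalRing Polynomial

/-- `E` absorbs the ramification of `F` for the valuation ring `W`: some element of `E` is largest among the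
non units of `F`. -/
def Tight {K L Ω : Type u} [Field K] [Field L] [Field Ω] [Algebra K Ω] [Algebra L Ω] (W : ValuationSubring Ω)
    (E : IntermediateField K Ω) (F : IntermediateField L Ω) : Prop :=
  (∀ x ∈ E, x ∈ F) ∧ ∃ ϖ ∈ E, ϖ ≠ 0 ∧ W.valuation ϖ < 1 ∧ ∀ x ∈ F, W.valuation x < 1 → W.valuation x ≤ W.valuation ϖ

theorem Tight.mono {K L Ω : Type u} [Field K] [Field L] [Field Ω] [Algebra K Ω] [Algebra L Ω] {W : ValuationSubring Ω}
    {E : IntermediateField K Ω} {F F' : IntermediateField L Ω} (h : Tight W E F) (hle : F' ≤ F)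
    (hE : ∀ x ∈ E, x ∈ F') : Tight W E F' := by
  obtain ⟨-, ϖ, h1, h2, h3, h4⟩ := h
  exact ⟨hE, ϖ, h1, h2, h3, fun x hx => h4 x (hle hx)⟩

/-- In a finite extension the elements that are `p ^ n`-th powers for all `n` are algebraic over those below. -/
theorem mem_range_of_forall_pow {ka k k' : Type u} [Field ka] [Field k] [Field k'] [Algebra ka k] [Algebra k k']
    [Algebra ka k'] [IsScalarTower ka k k'] [FiniteDimensional k k'] [IsAlgClosed ka] (p : ℕ) [Fact p.Prime]
    [CharP k p] (hk : ∀ x : k, (∀ n : ℕ, ∃ y : k, y ^ (p ^ n) = x) → x ∈ Set.range (algebraMap ka k))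
    (x : k') (hx : ∀ n : ℕ, ∃ y : k', y ^ (p ^ n) = x) : x ∈ Set.range (algebraMap ka k') := by
  classical
  haveI : CharP k' p := charP_of_injective_algebraMap (algebraMap k k').injective p
  let R : ℕ → Subfield k := fun n => (iterateFrobenius k p n).fieldRange
  let Q : ℕ → ℕ → Prop := fun n d => ∃ f : k[X], f.Monic ∧ f.natDegree = d ∧ (∀ i, f.coeff i ∈ R n) ∧ aeval x f = 0
  have hQ : ∀ n, ∃ d ≤ Module.finrank k k', Q n d := by
    intro n
    obtain ⟨y, hy⟩ := hx n
    have hint : IsIntegral k y := Algebra.IsIntegral.isIntegral y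
    refine ⟨_, minpoly.natDegree_le y, (minpoly k y).map (iterateFrobenius k p n), (minpoly.monic hint).map _,
      (minpoly.monic hint).natDegree_map _, fun i => by rw [coeff_map]; exact ⟨_, rfl⟩, ?_⟩
    have h1 : (algebraMap k k').comp (iterateFrobenius k p n) = (iterateFrobenius k' p n).comp (algebraMap k k') :=
      RingHom.ext fun z => by simp [iterateFrobenius_def]
    rw [aeval_def, eval₂_map, h1, show x = iterateFrobenius k' p n y by rw [iterateFrobenius_def, hy],
      ← hom_eval₂, ← aeval_def, minpoly.aeval, map_zero]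
  let m : ℕ → ℕ := fun n => Nat.find (hQ n)
  have hmle : ∀ n, m n ≤ Module.finrank k k' := fun n => (Nat.find_spec (hQ n)).1
  obtain ⟨n₀, hn₀⟩ : ∃ n₀, ∀ n, m n ≤ m n₀ := by
    obtain ⟨n₀, hn₀⟩ := Nat.sSup_mem (Set.range_nonempty m) ⟨Module.finrank k k', by rintro _ ⟨n, rfl⟩; exact hmle n⟩
    exact ⟨n₀, fun n => hn₀ ▸ le_csSup ⟨Module.finrank k k', by rintro _ ⟨n, rfl⟩; exact hmle n⟩ ⟨n, rfl⟩⟩
  have hR : ∀ {a b}, a ≤ b → R b ≤ R a := by
    intro a b hab z hz
    obtain ⟨w, rfl⟩ := hz
    refine ⟨w ^ p ^ (b - a), ?_⟩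
    simp only [iterateFrobenius_def]
    rw [← pow_mul, ← pow_add, Nat.sub_add_cancel hab]
  obtain ⟨f₀, hf₀, hd₀, hc₀, hx₀⟩ := (Nat.find_spec (hQ n₀)).2
  have hall : ∀ n i, f₀.coeff i ∈ R n := by
    intro n i
    suffices h : ∀ n, n₀ ≤ n → ∀ i, f₀.coeff i ∈ R n by
      rcases le_total n₀ n with h' | h'
      · exact h n h' i
      · exact hR h' (hc₀ i)
    intro n hn i
    obtain ⟨f, hf, hd, hc, hxf⟩ := (Nat.find_spec (hQ n)).2
    have hmn : m n = m n₀ := by
      refine le_antisymm (hn₀ n) (Nat.find_min' _ ⟨hmle n, f, hf, hd, fun i => hR hn (hc i), hxf⟩)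
    suffices heq : f₀ = f by rw [heq]; exact hc i
    by_contra hne
    set g := f₀ - f
    have hg0 : g ≠ 0 := sub_ne_zero.2 hne
    have hdlt : g.natDegree < m n₀ := by
      refine (natDegree_lt_iff_degree_lt hg0).2 ?_
      have hdeq : f₀.degree = f.degree := by
        rw [degree_eq_natDegree hf₀.ne_zero, degree_eq_natDegree hf.ne_zero, hd₀, hd]
        exact congrArg Nat.cast hmn.symm
      have := degree_sub_lt hdeq hf₀.ne_zero (by rw [hf₀.leadingCoeff, hf.leadingCoeff])
      rwa [degree_eq_natDegree hf₀.ne_zero, hd₀] at this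
    refine absurd (Nat.find_min' (hQ n₀) ?_) (not_le.2 hdlt)
    refine ⟨hdlt.le.trans (hmle n₀), g * C g.leadingCoeff⁻¹, monic_mul_leadingCoeff_inv hg0,
      natDegree_mul_C (inv_ne_zero (leadingCoeff_ne_zero.2 hg0)), fun j => ?_, by simp [g, hx₀, hxf]⟩
    rw [coeff_mul_C]
    have hgc : ∀ j, g.coeff j ∈ R n₀ := fun j => by
      rw [coeff_sub]; exact sub_mem (hc₀ j) (hR hn (hc j))
    exact mul_mem (hgc j) (inv_mem (hgc _))
  obtain ⟨g, hg⟩ : ∃ g : ka[X], g.map (algebraMap ka k) = f₀ := by
    refine (mem_map_range (f := algebraMap ka k)).2 fun i => hk _ fun n => ?_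
    obtain ⟨w, hw⟩ := hall n i
    exact ⟨w, by rw [← hw, iterateFrobenius_def]⟩
  have hxint : IsIntegral ka x := ⟨g, by
    have := hg ▸ hf₀
    exact monic_of_injective (algebraMap ka k).injective this, by
    rw [← aeval_def, ← aeval_map_algebraMap k, hg, hx₀]⟩
  exact minpoly.natDegree_eq_one_iff.1 (natDegree_eq_of_degree_eq_some
    (IsAlgClosed.degree_eq_one_of_irreducible ka (minpoly.irreducible hxint)))

section

variable {A B K L Ω : Type u} [CommRing A] [IsDomain A] [IsDiscreteValuationRing A]
  [CommRing B] [IsDomain B] [IsDiscreteValuationRing B] [Algebra A B] [IsLocalHom (algebraMap A B)]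
  [Field K] [Field L] [Algebra A K] [IsFractionRing A K] [Algebra B L] [IsFractionRing B L]
  [Algebra K L] [Algebra A L] [IsScalarTower A K L] [IsScalarTower A B L]
  [Field Ω] [Algebra L Ω] [Algebra K Ω] [IsScalarTower K L Ω]
  {W : ValuationSubring Ω} (hW : EtRam.Dominates B ((algebraMap L Ω).comp (algebraMap B L)) W)

include hW in
/-- Over a complete DVR the valuation extends uniquely. -/
theorem valuationSubring_unique [IsAdicComplete (maximalIdeal B) B] [Algebra.IsAlgebraic L Ω]
    {W' : ValuationSubring Ω} (hW' : EtRam.Dominates B ((algebraMap L Ω).comp (algebraMap B L)) W') : W' = W := by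
  haveI : HenselianLocalRing B := Hensel.henselianLocalRing_of_henselianRing B
  letI : Algebra B Ω := ((algebraMap L Ω).comp (algebraMap B L)).toAlgebra
  haveI : IsScalarTower B L Ω := IsScalarTower.of_algebraMap_eq fun _ => rfl
  haveI : IsLocalRing (integralClosure B Ω) := Hensel.isLocalRing_of_isIntegral_domain B (integralClosure B Ω)
  suffices h : ∀ W W' : ValuationSubring Ω, EtRam.Dominates B (algebraMap B Ω) W →
      EtRam.Dominates B (algebraMap B Ω) W' → ∀ x ∈ W, x ∈ W' from
    SetLike.ext fun x => ⟨h W' W hW' hW x, h W W' hW hW' x⟩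
  intro W W' hW hW' x hx
  haveI : FiniteDimensional L (IntermediateField.adjoin L {x}) :=
    IntermediateField.adjoin.finiteDimensional (Algebra.IsIntegral.isIntegral x)
  let M := IntermediateField.adjoin L {x}
  letI : Algebra B M := ((algebraMap L M).comp (algebraMap B L)).toAlgebra
  haveI : IsScalarTower B L M := IsScalarTower.of_algebraMap_eq fun _ => rfl
  haveI : IsScalarTower B M Ω := IsScalarTower.of_algebraMap_eq fun _ => rfl
  let WM := W.comap (algebraMap M Ω)
  have hdom : EtRam.Dominates B (algebraMap B M) WM := dominates_comap _ (algebraMap M Ω) W hW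
  obtain ⟨s, hs, hsw, hs1⟩ := exists_integral_unit_multiple (B := B) (L := L) WM hdom
    ⟨x, IntermediateField.mem_adjoin_simple_self L x⟩ hx
  have hsΩ : IsIntegral B (s : Ω) := hs.map (IsScalarTower.toAlgHom B M Ω)
  have hsxΩ : IsIntegral B ((s : Ω) * x) := hsw.map (IsScalarTower.toAlgHom B M Ω)
  have hW'int : ∀ y : Ω, IsIntegral B y → y ∈ W' := fun y hy => mem_of_isIntegral W' (A := B) hW'.1 hy
  have hs1' : ¬ W.valuation (s : Ω) < 1 := fun h =>
    absurd hs1 ((valuation_lt_one_comap W (algebraMap M Ω)).2 h).ne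
  have hunit : IsUnit (⟨(s : Ω), hsΩ⟩ : integralClosure B Ω) := by
    by_contra hnu
    let ι : integralClosure B Ω →+* W :=
      ((integralClosure B Ω).val : integralClosure B Ω →+* Ω).codRestrict W fun y => mem_of_isIntegral W (A := B) hW.1 y.2
    let P := (maximalIdeal W).comap ι
    haveI : P.IsPrime := Ideal.IsPrime.comap _
    haveI : P.IsMaximal := Ideal.isMaximal_of_isIntegral_of_isMaximal_comap (R := B) P (by
      have hc : P.comap (algebraMap B (integralClosure B Ω)) = maximalIdeal B := by
        ext b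
        constructor
        · intro hb hu
          exact hb ((hu.map (algebraMap B (integralClosure B Ω))).map ι)
        · intro hb
          exact (W.valuation_lt_one_iff _).2 (hW.2 b hb)
      rw [hc]; infer_instance)
    have : (⟨(s : Ω), hsΩ⟩ : integralClosure B Ω) ∈ P := by
      rw [IsLocalRing.eq_maximalIdeal (inferInstance : P.IsMaximal)]; exact hnu
    exact hs1' ((W.valuation_lt_one_iff _).1 this)
  obtain ⟨⟨r, hr⟩, hrs⟩ := hunit.exists_left_inv
  have hrs' : r * (s : Ω) = 1 := congrArg Subtype.val hrs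
  have : x = r * ((s : Ω) * x) := by rw [← mul_assoc, hrs', one_mul]
  rw [this]
  exact mul_mem (hW'int r hr) (hW'int _ hsxΩ)

include hW in
theorem dominates_A : EtRam.Dominates A ((algebraMap K Ω).comp (algebraMap A K)) W := by
  have e : ∀ a, algebraMap K Ω (algebraMap A K a) = algebraMap L Ω (algebraMap B L (algebraMap A B a)) := fun a => by
    rw [← IsScalarTower.algebraMap_apply A B L, IsScalarTower.algebraMap_apply A K L,
      ← IsScalarTower.algebraMap_apply K L Ω]
  exact ⟨fun a => by rw [RingHom.comp_apply, e]; exact hW.1 _, fun a ha => by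
    rw [RingHom.comp_apply, e]; exact hW.2 _ (map_nonunit (algebraMap A B) a ha)⟩

include hW in
theorem dominates_E (E : IntermediateField K Ω) :
    EtRam.Dominates A ((algebraMap K E).comp (algebraMap A K)) (W.comap (algebraMap E Ω)) :=
  dominates_comap _ (algebraMap E Ω) W (dominates_A (A := A) (K := K) hW)

variable (A) in
include A hW in
theorem dvr_E (E : IntermediateField K Ω) [FiniteDimensional K E] :
    IsDiscreteValuationRing (W.comap (algebraMap E Ω)) :=
  isDiscreteValuationRing_of_dominates_finite (A := A) (K := K) _ (dominates_E (A := A) hW E)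

include hW in
theorem dominates_F (F : IntermediateField L Ω) :
    EtRam.Dominates B ((algebraMap L F).comp (algebraMap B L)) (W.comap (algebraMap F Ω)) :=
  dominates_comap _ (algebraMap F Ω) W hW

include hW in
theorem dvr_F (F : IntermediateField L Ω) [FiniteDimensional L F] :
    IsDiscreteValuationRing (W.comap (algebraMap F Ω)) :=
  isDiscreteValuationRing_of_dominates_finite (A := B) (K := L) _ (dominates_F hW F)

include hW in
/-- The residue field does not grow in finite extensions of `K`. -/
theorem exists_sub_lt_E [IsAlgClosed (ResidueField A)] (E : IntermediateField K Ω) [FiniteDimensional K E] {x : Ω}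
    (hxE : x ∈ E) (hx : W.valuation x ≤ 1) : ∃ a : A, W.valuation (x - algebraMap K Ω (algebraMap A K a)) < 1 := by
  have hd := dominates_E (A := A) hW E
  set V := W.comap (algebraMap E Ω)
  haveI := dvr_E A hW E
  letI : Algebra A E := ((algebraMap K E).comp (algebraMap A K)).toAlgebra
  haveI : IsScalarTower A K E := IsScalarTower.of_algebraMap_eq fun _ => rfl
  letI : Algebra A V := (((algebraMap K E).comp (algebraMap A K)).codRestrict V hd.1).toAlgebra
  haveI : IsScalarTower A V E := IsScalarTower.of_algebraMap_eq fun _ => rfl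
  haveI : IsLocalHom (algebraMap A V) := isLocalHom_of_dominates _ V hd
  haveI := finite_residueField_of_dominates (A := A) (K := K) V
  let xV : V := ⟨⟨x, hxE⟩, (W.valuation_le_one_iff _).1 hx⟩
  obtain ⟨r, hr⟩ := (IsAlgClosed.algebraMap_bijective_of_isIntegral (k := ResidueField A) (K := ResidueField V)).2
    (residue V xV)
  obtain ⟨a, rfl⟩ := residue_surjective r
  refine ⟨a, (valuation_lt_one_comap W (algebraMap E Ω) (x := ((xV - algebraMap A V a : V) : E))).1 ?_⟩
  rw [← V.valuation_lt_one_iff]
  exact (residue_eq_zero_iff _).1 (by rw [map_sub, sub_eq_zero, ← hr]; rfl)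

include hW in
/-- Residues which are `p ^ n`-th powers for all `n` in a finite extension of `L` come from `A`. -/
theorem exists_sub_lt_F (p : ℕ) [Fact p.Prime] [CharP (ResidueField A) p] [IsAlgClosed (ResidueField A)]
    (hk : ∀ x : ResidueField B, (∀ n : ℕ, ∃ y : ResidueField B, y ^ (p ^ n) = x) ↔
      x ∈ Set.range (algebraMap (ResidueField A) (ResidueField B)))
    (F : IntermediateField L Ω) [FiniteDimensional L F] {x : Ω} (hxF : x ∈ F) (hx : W.valuation x ≤ 1)
    (hpow : ∀ n : ℕ, ∃ y ∈ F, W.valuation y ≤ 1 ∧ W.valuation (y ^ p ^ n - x) < 1) :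
    ∃ a : A, W.valuation (x - algebraMap K Ω (algebraMap A K a)) < 1 := by
  have hd := dominates_F hW F
  set V := W.comap (algebraMap F Ω)
  haveI := dvr_F hW F
  letI : Algebra B F := ((algebraMap L F).comp (algebraMap B L)).toAlgebra
  haveI : IsScalarTower B L F := IsScalarTower.of_algebraMap_eq fun _ => rfl
  letI : Algebra B V := (((algebraMap L F).comp (algebraMap B L)).codRestrict V hd.1).toAlgebra
  haveI : IsScalarTower B V F := IsScalarTower.of_algebraMap_eq fun _ => rfl
  haveI : IsLocalHom (algebraMap B V) := isLocalHom_of_dominates _ V hd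
  haveI := finite_residueField_of_dominates (A := B) (K := L) V
  haveI : CharP (ResidueField B) p :=
    charP_of_injective_algebraMap (algebraMap (ResidueField A) (ResidueField B)).injective p
  letI : Algebra (ResidueField A) (ResidueField V) :=
    ((algebraMap (ResidueField B) (ResidueField V)).comp (algebraMap (ResidueField A) (ResidueField B))).toAlgebra
  haveI : IsScalarTower (ResidueField A) (ResidueField B) (ResidueField V) := IsScalarTower.of_algebraMap_eq' rfl
  let xV : V := ⟨⟨x, hxF⟩, (W.valuation_le_one_iff _).1 hx⟩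
  obtain ⟨r, hr⟩ := mem_range_of_forall_pow (ka := ResidueField A) (k := ResidueField B) p (fun z hz => (hk z).1 hz)
    (residue V xV) fun n => by
      obtain ⟨y, hyF, hy1, hy2⟩ := hpow n
      refine ⟨residue V ⟨⟨y, hyF⟩, (W.valuation_le_one_iff _).1 hy1⟩, ?_⟩
      rw [← map_pow, ← sub_eq_zero, ← map_sub, residue_eq_zero_iff]
      exact (V.valuation_lt_one_iff _).2 ((valuation_lt_one_comap W (algebraMap F Ω)).2 hy2)
  obtain ⟨a, rfl⟩ := residue_surjective r
  refine ⟨a, ?_⟩
  have e : algebraMap K Ω (algebraMap A K a) = algebraMap L Ω (algebraMap B L (algebraMap A B a)) := by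
    rw [← IsScalarTower.algebraMap_apply A B L, IsScalarTower.algebraMap_apply A K L,
      ← IsScalarTower.algebraMap_apply K L Ω]
  rw [e]
  refine (valuation_lt_one_comap W (algebraMap F Ω) (x := ((xV - algebraMap B V (algebraMap A B a) : V) : F))).1 ?_
  rw [← V.valuation_lt_one_iff]
  exact (residue_eq_zero_iff _).1 (by rw [map_sub, sub_eq_zero, ← hr]; rfl)

set_option maxHeartbeats 800000 in
include hW in
/-- Tightness persists in finite extensions of `E`, the residue field of `A` being algebraically closed. -/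
theorem Tight.extend [IsAlgClosed (ResidueField A)] {E E' : IntermediateField K Ω} (hle : E ≤ E')
    [FiniteDimensional K E'] {F : IntermediateField L Ω} [FiniteDimensional L F] (h : Tight W E F) :
    Tight W E' (F ⊔ IntermediateField.adjoin L (E' : Set Ω)) := by
  obtain ⟨hEF, ϖ, hϖE, hϖ0, hϖ1, hmax⟩ := h
  haveI : FiniteDimensional K E := FiniteDimensional.of_injective (IntermediateField.inclusion hle).toLinearMap
    (IntermediateField.inclusion hle).injective
  let i : E →+* F := ((algebraMap E Ω) : E →+* Ω).codRestrict F fun x => hEF x x.2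
  let VF := W.comap (algebraMap F Ω)
  let VE := VF.comap i
  have hVE : VE = W.comap (algebraMap E Ω) := rfl
  haveI : IsDiscreteValuationRing VF := dvr_F hW F
  haveI hdE : IsDiscreteValuationRing (W.comap (algebraMap E Ω)) := dvr_E A hW E
  haveI : IsDiscreteValuationRing VE := hdE
  letI : Algebra VE VF := (EtRam.inclOfComap VF i).toAlgebra
  haveI : IsLocalHom (algebraMap VE VF) := inferInstanceAs (IsLocalHom (EtRam.inclOfComap VF i))
  letI : Algebra E F := i.toAlgebra
  letI : Algebra VE F := (i.comp VE.subtype).toAlgebra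
  haveI : IsScalarTower VE E F := IsScalarTower.of_algebraMap_eq fun _ => rfl
  haveI : IsScalarTower VE VF F := IsScalarTower.of_algebraMap_eq fun _ => rfl
  have hinj : Function.Injective (algebraMap VE VF) := fun a b hab =>
    Subtype.ext (i.injective (congrArg Subtype.val hab))
  have hweak : EtRam.IsWeaklyUnramified VE VF := isWeaklyUnramified_inclOfComap VF i fun x hx => by
    refine ⟨⟨ϖ, hϖE⟩, (valuation_lt_one_comap W (algebraMap F Ω)).2 hϖ1, ?_⟩
    have h1 := hmax x x.2 ((valuation_lt_one_comap W (algebraMap F Ω)).1 hx)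
    have h2 : (x : F) / i ⟨ϖ, hϖE⟩ ∈ VF := by
      show algebraMap F Ω _ ∈ W
      refine (W.valuation_le_one_iff _).1 ?_
      rw [map_div₀, map_div₀, div_le_one₀ (zero_lt_iff.2 ((Valuation.ne_zero_iff _).2 hϖ0))]
      exact h1
    have h3 := (VF.valuation_le_one_iff _).2 h2
    rwa [map_div₀, div_le_one₀ (zero_lt_iff.2 ((Valuation.ne_zero_iff _).2
      ((map_ne_zero i).2 fun h0 => hϖ0 (congrArg Subtype.val h0 :))))] at h3
  haveI : IsAlgClosed (ResidueField VE) := by
    have hd := dominates_E (A := A) hW E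
    let f : A →+* VE := ((algebraMap K E).comp (algebraMap A K)).codRestrict VE hd.1
    haveI : IsLocalHom f := isLocalHom_of_dominates _ _ hd
    let e : ResidueField A ≃+* ResidueField VE := RingEquiv.ofBijective (ResidueField.map f)
      ⟨(ResidueField.map f).injective, fun r => by
        obtain ⟨x, rfl⟩ := residue_surjective r
        obtain ⟨a, ha⟩ := exists_sub_lt_E (A := A) hW E (x := ((x : E) : Ω)) (x : E).2
          ((W.valuation_le_one_iff _).2 x.2)
        refine ⟨residue A a, ?_⟩
        rw [ResidueField.map_residue, eq_comm, ← sub_eq_zero, ← map_sub, residue_eq_zero_iff]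
        exact (VE.valuation_lt_one_iff _).2 ((valuation_lt_one_comap W (algebraMap E Ω)).2 ha)⟩
    exact IsAlgClosed.of_ringEquiv (ResidueField A) (ResidueField VE) e
  haveI : Algebra.IsGeometricallyReduced (ResidueField VE) (ResidueField VF) :=
    GrpSchLib.isGeometricallyReduced_of_isReduced (k := ResidueField VE) (ResidueField VF)
  let j : E →+* E' := (IntermediateField.inclusion hle).toRingHom
  letI : Algebra E E' := j.toAlgebra
  haveI : IsScalarTower K E E' := IsScalarTower.of_algebraMap_eq fun _ => rfl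
  haveI : FiniteDimensional E E' := FiniteDimensional.right K E E'
  have hsol := S1983.result VE VF E F hinj hweak E'
  set F' := F ⊔ IntermediateField.adjoin L (E' : Set Ω)
  have hE'F' : ∀ x ∈ E', x ∈ F' := fun x hx =>
    (le_sup_right : IntermediateField.adjoin L (E' : Set Ω) ≤ F') (IntermediateField.subset_adjoin L _ hx)
  let k₁ : E' →+* F' := (algebraMap E' Ω).codRestrict F' fun x => hE'F' x x.2
  letI : Algebra E' F' := k₁.toAlgebra
  letI : Algebra F F' := (IntermediateField.inclusion (le_sup_left : F ≤ F')).toRingHom.toAlgebra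
  letI : Algebra E F' := (k₁.comp j).toAlgebra
  haveI : IsScalarTower E F F' := IsScalarTower.of_algebraMap_eq fun _ => rfl
  haveI : IsScalarTower E E' F' := IsScalarTower.of_algebraMap_eq fun _ => rfl
  have hgen : Algebra.adjoin F (Set.range (algebraMap E' F')) = ⊤ := by
    have halg : ∀ x ∈ (E' : Set Ω), IsAlgebraic L x := fun x hx =>
      (((Algebra.IsIntegral.isIntegral (R := K) (⟨x, hx⟩ : E')).map E'.val).tower_top).isAlgebraic
    have hfin : FiniteDimensional L (IntermediateField.adjoin L (E' : Set Ω)) := by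
      have hr : (E' : Set Ω) = Set.range (algebraMap E' Ω) := by ext y; simp
      rw [hr]
      exact (adjoin_range_facts (A := A) (K := K) (L := L) (K₁ := E') (M' := Ω)).1
    have hsup := IntermediateField.sup_toSubalgebra_of_isAlgebraic_left F (IntermediateField.adjoin L (E' : Set Ω))
    rw [IntermediateField.adjoin_toSubalgebra_of_isAlgebraic halg] at hsup
    refine top_le_iff.1 fun x _ => ?_
    suffices hh : ∀ y : Ω, ∀ hy : y ∈ F', (⟨y, hy⟩ : F') ∈ Algebra.adjoin F (Set.range (algebraMap E' F')) from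
      hh x x.2
    intro y hy
    have hy' : y ∈ Algebra.adjoin L ((F : Set Ω) ∪ (E' : Set Ω)) := by
      have : y ∈ F.toSubalgebra ⊔ Algebra.adjoin L (E' : Set Ω) := hsup ▸ hy
      rwa [Algebra.adjoin_union, show Algebra.adjoin L (F : Set Ω) = F.toSubalgebra from Algebra.adjoin_eq F.toSubalgebra]
    have hsub : ∀ z ∈ Algebra.adjoin L ((F : Set Ω) ∪ (E' : Set Ω)), ∃ hz : z ∈ F',
        (⟨z, hz⟩ : F') ∈ Algebra.adjoin F (Set.range (algebraMap E' F')) := by
      intro z hz
      induction hz using Algebra.adjoin_induction with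
      | mem z hz =>
        rcases hz with hz | hz
        · exact ⟨(le_sup_left : F ≤ F') hz, Subalgebra.algebraMap_mem _ (⟨z, hz⟩ : F)⟩
        · exact ⟨hE'F' z hz, Algebra.subset_adjoin ⟨⟨z, hz⟩, rfl⟩⟩
      | algebraMap l => exact ⟨F'.algebraMap_mem l, Subalgebra.algebraMap_mem _ (algebraMap L F l)⟩
      | add a b _ _ ha hb =>
        obtain ⟨ha, ha'⟩ := ha
        obtain ⟨hb, hb'⟩ := hb
        exact ⟨add_mem ha hb, add_mem ha' hb'⟩
      | mul a b _ _ ha hb =>
        obtain ⟨ha, ha'⟩ := ha
        obtain ⟨hb, hb'⟩ := hb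
        exact ⟨mul_mem ha hb, mul_mem ha' hb'⟩
    exact (hsub y hy').2
  let W' := W.comap (algebraMap F' Ω)
  have hdom : EtRam.Dominates VF ((algebraMap F F').comp (algebraMap VF F)) W' :=
    dominates_comap _ (algebraMap F' Ω) W (dominates_self_comap (algebraMap F Ω) W)
  have hgood := (hsol F' hgen W' hdom).1
  haveI : IsDiscreteValuationRing (W.comap (algebraMap E' Ω)) := dvr_E A hW E'
  obtain ⟨τ, hτ⟩ := IsDiscreteValuationRing.exists_irreducible (W.comap (algebraMap E' Ω))
  refine ⟨hE'F', ((τ : E') : Ω), (τ : E').2, fun h0 => hτ.ne_zero (Subtype.ext (Subtype.ext h0)),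
    (valuation_lt_one_comap W (algebraMap E' Ω)).1 ((ValuationSubring.valuation_lt_one_iff _ τ).1 hτ.not_isUnit), fun x hx hx1 => ?_⟩
  obtain ⟨a, ha1, ha2⟩ := exists_le_of_isWeaklyUnramified W' k₁ hgood ⟨x, hx⟩
    ((valuation_lt_one_comap W (algebraMap F' Ω)).2 hx1)
  have ha1' : W.valuation (a : Ω) < 1 := (valuation_lt_one_comap W (algebraMap F' Ω)).1 ha1
  have ha2' : W.valuation x ≤ W.valuation (a : Ω) := valuation_le_of_comap W (algebraMap F' Ω) ha2
  refine ha2'.trans ?_
  have hmem : (⟨a, (W.valuation_le_one_iff _).1 ha1'.le⟩ : W.comap (algebraMap E' Ω)) ∈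
      maximalIdeal (W.comap (algebraMap E' Ω)) :=
    (ValuationSubring.valuation_lt_one_iff _ _).2 ((valuation_lt_one_comap W (algebraMap E' Ω)).2 ha1')
  rw [hτ.maximalIdeal_eq, Ideal.mem_span_singleton] at hmem
  obtain ⟨c, hc⟩ := hmem
  have : (a : Ω) = ((τ : E') : Ω) * ((c : E') : Ω) := congrArg (fun z => ((Subtype.val z : E') : Ω)) hc
  rw [this, map_mul]
  exact mul_le_of_le_one_right' ((W.valuation_le_one_iff _).2 c.2)

end

end Groth.Agent.EtRam7.Epp
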