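import Groth.Agent.EtRam7.Epp.Step
import Mathlib

/-! The Artin–Schreier, Kummer, tame and purely inseparable cases. -/

set_option autoImplicit false
set_option linter.style.haveILetI false
set_option linter.unusedSectionVars false
universe u

namespace Groth.Agent.EtRam7.Epp

open IsLocalRing Polynomial

variable {A B K L Ω : Type u} [CommRing A] [IsDomain A] [IsDiscreteValuationRing A]
  [CommRing B] [IsDomain B] [IsDiscreteValuationRing B] [Algebra A B] [IsLocalHom (algebraMap A B)]
  [Field K] [Field L] [Algebra A K] [IsFractionRing A K] [Algebra B L] [IsFractionRing B L]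
  [Algebra K L] [Algebra A L] [IsScalarTower A K L] [IsScalarTower A B L]
  [Field Ω] [Algebra L Ω] [Algebra K Ω] [IsScalarTower K L Ω]
  {W : ValuationSubring Ω} (hW : EtRam.Dominates B ((algebraMap L Ω).comp (algebraMap B L)) W)

include hW in
/-- Integral elements of `F` have the valuation of a power of the largest non unit. -/
theorem exists_eq_pow {F : IntermediateField L Ω} [FiniteDimensional L F] {ϖ : Ω} (hϖF : ϖ ∈ F) (hϖ0 : ϖ ≠ 0)
    (hϖ1 : W.valuation ϖ < 1) (hmax : ∀ x ∈ F, W.valuation x < 1 → W.valuation x ≤ W.valuation ϖ)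
    {x : Ω} (hx : x ∈ F) (hx0 : x ≠ 0) (hx1 : W.valuation x ≤ 1) : ∃ n : ℕ, W.valuation x = W.valuation ϖ ^ n := by
  haveI := dvr_F hW F
  set OF := W.comap (algebraMap F Ω)
  have hx' : (⟨⟨x, hx⟩, (W.valuation_le_one_iff _).1 hx1⟩ : OF) ≠ 0 :=
    fun h => hx0 (congrArg (fun z : OF => ((z : F) : Ω)) h)
  obtain ⟨n, v, hv⟩ := IsDiscreteValuationRing.eq_unit_mul_pow_irreducible hx' (irreducible_of_max hϖF hϖ0 hϖ1 hmax)
  refine ⟨n, ?_⟩
  have h1 : x = (((v : OF) : F) : Ω) * ϖ ^ n := congrArg (fun z : OF => ((z : F) : Ω)) hv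
  have h2 : W.valuation (((v : OF) : F) : Ω) = 1 := by
    refine le_antisymm ((W.valuation_le_one_iff _).2 (v : OF).2) (not_lt.1 fun h => ?_)
    exact (ValuationSubring.valuation_lt_one_iff _ (v : OF)).2 ((valuation_lt_one_comap W (algebraMap F Ω)).2 h) v.isUnit
  rw [h1, map_mul, map_pow, h2, one_mul]

include hW in
/-- Elements of `F` written with pole order. -/
theorem exists_pole {F : IntermediateField L Ω} [FiniteDimensional L F] {ϖ : Ω} (hϖF : ϖ ∈ F) (hϖ0 : ϖ ≠ 0)
    (hϖ1 : W.valuation ϖ < 1) (hmax : ∀ x ∈ F, W.valuation x < 1 → W.valuation x ≤ W.valuation ϖ)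
    {x : Ω} (hx : x ∈ F) : ∃ n : ℕ, W.valuation (x * ϖ ^ n) ≤ 1 := by
  rcases le_or_gt (W.valuation x) 1 with h | h
  · exact ⟨0, by simpa using h⟩
  have hx0 : x ≠ 0 := fun h0 => by rw [h0, map_zero] at h; exact not_lt.2 zero_le h
  obtain ⟨n, hn⟩ := exists_eq_pow hW hϖF hϖ0 hϖ1 hmax (inv_mem hx) (inv_ne_zero hx0) (by
    rw [map_inv₀]; exact inv_le_one_of_one_le₀ h.le)
  refine ⟨n, le_of_eq ?_⟩
  rw [map_mul, map_pow, ← hn, ← map_mul, mul_inv_cancel₀ hx0, map_one]

include hW in
/-- Artin–Schreier step. -/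
theorem exists_tight_artinSchreier (p : ℕ) [Fact p.Prime] [CharP Ω p] [CharP (ResidueField A) p]
    [IsAlgClosed (ResidueField A)] [IsAlgClosed Ω]
    (hk : ∀ x : ResidueField B, (∀ n : ℕ, ∃ y : ResidueField B, y ^ (p ^ n) = x) ↔
      x ∈ Set.range (algebraMap (ResidueField A) (ResidueField B)))
    {E : IntermediateField K Ω} [FiniteDimensional K E] {F : IntermediateField L Ω} [FiniteDimensional L F]
    (h : Tight W E F) {z : Ω} (hz : z ^ p - z ∈ F) :
    ∃ (E' : IntermediateField K Ω) (F' : IntermediateField L Ω), E ≤ E' ∧ FiniteDimensional K E' ∧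
      FiniteDimensional L F' ∧ F ≤ F' ∧ z ∈ F' ∧ Tight W E' F' := by
  have hp : p.Prime := Fact.out
  obtain ⟨hEF, ϖ, hϖE, hϖ0, hϖ1, hmax⟩ := h
  obtain ⟨n, hn⟩ := exists_pole hW (hEF ϖ hϖE) hϖ0 hϖ1 hmax hz
  have hd : (-X : Polynomial Ω).degree < (p : WithBot ℕ) := by
    rw [degree_neg, degree_X]; exact_mod_cast hp.one_lt
  have hQ : ((X ^ p + -X) : Polynomial Ω).Monic := monic_X_pow_add hd
  have hQd : ((X ^ p + -X) : Polynomial Ω).natDegree = p := natDegree_eq_of_degree_eq_some (by
    rw [degree_add_eq_left_of_degree_lt (by rwa [degree_X_pow]), degree_X_pow])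
  have hcoeff : ∀ i, ((X ^ p + -X) : Polynomial Ω).coeff i = 0 ∨ ((X ^ p + -X) : Polynomial Ω).coeff i = 1 ∨
      ((X ^ p + -X) : Polynomial Ω).coeff i = -1 := by
    intro i
    simp only [coeff_add, coeff_neg, coeff_X_pow, coeff_X]
    by_cases h1 : i = p
    · subst h1; simp [hp.one_lt.ne]
    · by_cases h2 : 1 = i
      · subst h2; simp [hp.one_lt.ne]
      · simp [h1, h2]
  refine exists_tight_step hW p hk hEF hϖE hϖ0 hϖ1 hmax (X ^ p + -X) hQ hQd ?_ ?_ 0 (zero_mem E) (by simp)
    (by simp [zero_pow hp.ne_zero]) (-1) (neg_mem (one_mem E)) (by simp) (by simp [derivative_X_pow]) ?_ n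
    (by rw [map_zero, zero_pow hp.ne_zero]; exact pow_pos (zero_lt_iff.2 ((Valuation.ne_zero_iff _).2 hϖ0)) n)
    (by rw [map_zero, zero_pow hp.ne_zero]; exact zero_le) (by rw [CharP.cast_eq_zero, map_zero]; exact zero_le)
    ?_ (mul_mem hz (pow_mem (hEF ϖ hϖE) n)) hn (by simp [sub_eq_add_neg])
  · intro i
    rcases hcoeff i with h | h | h <;> rw [h]
    exacts [zero_mem _, one_mem _, neg_mem (one_mem _)]
  · intro i
    rcases hcoeff i with h | h | h <;> rw [h]
    exacts [zero_mem _, one_mem _, neg_mem (one_mem _)]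
  · intro x u _
    simp only [zero_mul, add_zero, div_one, one_pow, mul_one, eval_add, eval_pow, eval_X, eval_neg]
    rw [sub_pow_char]
    ring
  · intro u _
    simp [sub_eq_add_neg]

include hW in
/-- Purely inseparable elements. -/
theorem exists_tight_purelyInseparable (p : ℕ) [Fact p.Prime] [CharP Ω p] [IsAlgClosed Ω]
    {E : IntermediateField K Ω} [FiniteDimensional K E] {F : IntermediateField L Ω} [FiniteDimensional L F]
    (h : Tight W E F) (m : ℕ) (N : IntermediateField L Ω) (hN : ∀ x ∈ N, x ^ p ^ m ∈ F) :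
    ∃ (E' : IntermediateField K Ω), FiniteDimensional K E' ∧
      Tight W E' (N ⊔ IntermediateField.adjoin L (E' : Set Ω)) := by
  have hp : p.Prime := Fact.out
  obtain ⟨hEF, ϖ, hϖE, hϖ0, hϖ1, hmax⟩ := h
  obtain ⟨t, ht⟩ := IsAlgClosed.exists_pow_nat_eq ϖ (pow_pos hp.pos m)
  let E' := E ⊔ IntermediateField.adjoin K {t}
  have ht' : t ∈ E' := (le_sup_right : IntermediateField.adjoin K {t} ≤ E') (IntermediateField.mem_adjoin_simple_self K t)
  have hintK : IsIntegral K t := IsIntegral.of_pow (pow_pos hp.pos m) (by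
    rw [ht]; exact (Algebra.IsIntegral.isIntegral (R := K) (⟨ϖ, hϖE⟩ : E)).map E.val)
  haveI : FiniteDimensional K (IntermediateField.adjoin K {t}) := IntermediateField.adjoin.finiteDimensional hintK
  -- elements whose `p ^ m`-th power lies in `F`
  let G : IntermediateField L Ω := (F.toSubfield.comap (iterateFrobenius Ω p m)).toIntermediateField fun l => by
    show iterateFrobenius Ω p m (algebraMap L Ω l) ∈ F
    rw [iterateFrobenius_def, ← map_pow]
    exact F.algebraMap_mem _
  have hmem : ∀ x, x ∈ G ↔ x ^ p ^ m ∈ F := fun x => Iff.rfl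
  have hE'G : E' ≤ G.restrictScalars K := sup_le (fun x hx => (hmem x).2 (hEF _ (pow_mem hx _)))
    (IntermediateField.adjoin_simple_le_iff.2 ((hmem t).2 (by rw [ht]; exact hEF ϖ hϖE)))
  have ht0 : t ≠ 0 := by rintro rfl; exact hϖ0 (by rw [← ht, zero_pow (pow_pos hp.pos m).ne'])
  have ht1 : W.valuation t < 1 := by
    refine not_le.1 fun h => (not_le.2 hϖ1) ?_
    rw [← ht, map_pow]; exact one_le_pow₀ h
  have hle : N ⊔ IntermediateField.adjoin L (E' : Set Ω) ≤ G :=
    sup_le (fun x hx => (hmem x).2 (hN x hx)) (IntermediateField.adjoin_le_iff.2 fun x hx => hE'G hx)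
  refine ⟨E', inferInstance, fun x hx => (le_sup_right : IntermediateField.adjoin L (E' : Set Ω) ≤
    N ⊔ IntermediateField.adjoin L (E' : Set Ω)) (IntermediateField.subset_adjoin L _ hx), t, ht', ht0, ht1,
    fun x hx hx1 => ?_⟩
  refine le_of_pow_le_pow_left₀ (pow_pos hp.pos m).ne' zero_le ?_
  rw [← map_pow, ← map_pow, ht]
  refine hmax _ ((hmem x).1 (hle hx)) ?_
  rw [map_pow]
  exact pow_lt_one₀ zero_le hx1 (pow_pos hp.pos m).ne'

include hW in
/-- Valuations are invariant under automorphisms over `L`. -/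
theorem valuation_algEquiv [IsAdicComplete (maximalIdeal B) B] [Algebra.IsAlgebraic L Ω] (σ : Ω ≃ₐ[L] Ω) (x : Ω) :
    W.valuation (σ x) = W.valuation x := by
  by_cases hx0 : x = 0
  · rw [hx0, map_zero]
  have hWσ : W.comap (σ : Ω →+* Ω) = W := valuationSubring_unique hW (dominates_comap _ (σ : Ω →+* Ω) W ⟨fun b => by
    show σ (algebraMap L Ω (algebraMap B L b)) ∈ W
    rw [σ.commutes]; exact hW.1 b, fun b hb => by
    show W.valuation (σ (algebraMap L Ω (algebraMap B L b))) < 1
    rw [σ.commutes]; exact hW.2 b hb⟩)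
  have hle : ∀ z, W.valuation z ≤ 1 → W.valuation (σ z) ≤ 1 := fun z hz => by
    have h1 : z ∈ W.comap (σ : Ω →+* Ω) := by rw [hWσ]; exact (W.valuation_le_one_iff z).1 hz
    exact (W.valuation_le_one_iff _).2 h1
  haveI : FiniteDimensional L (IntermediateField.adjoin L {x}) :=
    IntermediateField.adjoin.finiteDimensional (Algebra.IsIntegral.isIntegral x)
  set F := IntermediateField.adjoin L {x}
  haveI := dvr_F hW F
  set OF := W.comap (algebraMap F Ω)
  obtain ⟨π, hπ⟩ := IsDiscreteValuationRing.exists_irreducible B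
  let f : B →+* OF := ((algebraMap L F).comp (algebraMap B L)).codRestrict OF (dominates_F hW F).1
  have hfπ : f π ≠ 0 := fun h => hπ.ne_zero (IsFractionRing.injective B L ((algebraMap L F).injective
    ((congrArg Subtype.val h).trans (by simp))))
  obtain ⟨ϖ, hϖ⟩ := IsDiscreteValuationRing.exists_irreducible OF
  obtain ⟨e, v, hv⟩ := IsDiscreteValuationRing.eq_unit_mul_pow_irreducible hfπ hϖ
  have hvv : ∀ w : OFˣ, W.valuation (((w : OF) : F) : Ω) = 1 := fun w => by
    refine le_antisymm ((W.valuation_le_one_iff _).2 (w : OF).2) (not_lt.1 fun h => ?_)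
    exact (ValuationSubring.valuation_lt_one_iff _ (w : OF)).2 ((valuation_lt_one_comap W (algebraMap F Ω)).2 h) w.isUnit
  have hσv : ∀ w : OFˣ, W.valuation (σ (((w : OF) : F) : Ω)) = 1 := fun w => by
    have h1 := hle _ (hvv w).le
    have h2 := hle ((((w : OF) : F) : Ω))⁻¹ (by rw [map_inv₀, hvv, inv_one])
    rw [map_inv₀, map_inv₀] at h2
    refine le_antisymm h1 ?_
    have h0 : W.valuation (σ (((w : OF) : F) : Ω)) ≠ 0 := (Valuation.ne_zero_iff _).2 fun h => by
      rw [map_eq_zero] at h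
      exact zero_ne_one (((congrArg W.valuation h).trans (map_zero _)).symm.trans (hvv w))
    exact (inv_le_one₀ (zero_lt_iff.2 h0)).1 h2
  have he0 : e ≠ 0 := by
    rintro rfl
    rw [pow_zero, mul_one] at hv
    have := isLocalHom_of_dominates _ OF (dominates_F hW F)
    exact hπ.not_isUnit (IsLocalHom.map_nonunit (f := f) π (hv ▸ v.isUnit))
  have hϖσ : W.valuation (σ ((ϖ : F) : Ω)) = W.valuation ((ϖ : F) : Ω) := by
    have h1 : algebraMap L Ω (algebraMap B L π) = (((v : OF) : F) : Ω) * ((ϖ : F) : Ω) ^ e :=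
      congrArg (fun z : OF => ((z : F) : Ω)) hv
    have h2 := congrArg (fun z => W.valuation (σ z)) h1
    simp only [σ.commutes, map_mul, map_pow, hσv, one_mul] at h2
    have h3 := congrArg W.valuation h1
    rw [map_mul, map_pow, hvv, one_mul] at h3
    exact pow_left_inj₀ zero_le zero_le he0 |>.1 (h2.symm.trans h3)
  obtain ⟨a, b, hb, hab⟩ := IsFractionRing.div_surjective (A := OF)
    (⟨x, IntermediateField.mem_adjoin_simple_self L x⟩ : F)
  have hval : ∀ z : OF, z ≠ 0 → W.valuation (σ ((z : F) : Ω)) = W.valuation ((z : F) : Ω) := fun z hz => by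
    obtain ⟨j, w, rfl⟩ := IsDiscreteValuationRing.eq_unit_mul_pow_irreducible hz hϖ
    push_cast
    rw [map_mul, map_pow, map_mul, map_pow, map_mul, map_pow, hσv, hvv, hϖσ]
  have ha0 : a ≠ 0 := fun h => hx0 (by
    rw [h, map_zero, zero_div] at hab
    exact (congrArg Subtype.val hab).symm)
  have hx : x = ((a : F) : Ω) / ((b : F) : Ω) := (congrArg Subtype.val hab).symm
  rw [hx, map_div₀, map_div₀, map_div₀, hval a ha0, hval b (nonZeroDivisors.ne_zero hb)]

set_option maxHeartbeats 800000 in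
include hW in
/-- Tame elimination. -/
theorem exists_tight_tame (p : ℕ) [Fact p.Prime] [CharP (ResidueField A) p] [IsAlgClosed Ω]
    [IsAdicComplete (maximalIdeal B) B] [Algebra.IsAlgebraic L Ω] (hw : EtRam.IsWeaklyUnramified A B)
    (F : IntermediateField L Ω) [FiniteDimensional L F] (hn : ¬ p ∣ Module.finrank L F) :
    ∃ (E : IntermediateField K Ω) (F' : IntermediateField L Ω), FiniteDimensional K E ∧ FiniteDimensional L F' ∧
      F ≤ F' ∧ Tight W E F' := by
  classical
  have hp : p.Prime := Fact.out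
  haveI := dvr_F hW F
  set OF := W.comap (algebraMap F Ω)
  obtain ⟨τ, hτ⟩ := IsDiscreteValuationRing.exists_irreducible OF
  set ϖ : Ω := ((τ : F) : Ω)
  have hϖF : ϖ ∈ F := (τ : F).2
  have hϖ0 : ϖ ≠ 0 := fun h => hτ.ne_zero (Subtype.ext (Subtype.ext h))
  have hϖ1 : W.valuation ϖ < 1 :=
    (valuation_lt_one_comap W (algebraMap F Ω)).1 ((ValuationSubring.valuation_lt_one_iff _ τ).1 hτ.not_isUnit)
  have hmax : ∀ x ∈ F, W.valuation x < 1 → W.valuation x ≤ W.valuation ϖ := by
    intro x hx hx1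
    have hm : (⟨⟨x, hx⟩, (W.valuation_le_one_iff _).1 hx1.le⟩ : OF) ∈ maximalIdeal OF :=
      (ValuationSubring.valuation_lt_one_iff _ _).2 ((valuation_lt_one_comap W (algebraMap F Ω)).2 hx1)
    rw [hτ.maximalIdeal_eq, Ideal.mem_span_singleton] at hm
    obtain ⟨c, hc⟩ := hm
    have : x = ϖ * ((c : F) : Ω) := congrArg (fun z : OF => ((z : F) : Ω)) hc
    rw [this, map_mul]
    exact mul_le_of_le_one_right' ((W.valuation_le_one_iff _).2 c.2)
  obtain ⟨π, hπ⟩ := IsDiscreteValuationRing.exists_irreducible A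
  set P : Ω := algebraMap K Ω (algebraMap A K π)
  have hPL : P = algebraMap L Ω (algebraMap B L (algebraMap A B π)) := by
    show algebraMap K Ω (algebraMap A K π) = _
    rw [← IsScalarTower.algebraMap_apply A B L, IsScalarTower.algebraMap_apply A K L,
      ← IsScalarTower.algebraMap_apply K L Ω]
  have hP0 : P ≠ 0 := fun h => hπ.ne_zero (IsFractionRing.injective A K ((algebraMap K Ω).injective
    (h.trans (map_zero _).symm) |>.trans (map_zero _).symm))
  have hP1 : W.valuation P < 1 := (dominates_A (A := A) (K := K) hW).2 π hπ.not_isUnit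
  obtain ⟨e, he⟩ := exists_eq_pow hW hϖF hϖ0 hϖ1 hmax (hPL ▸ F.algebraMap_mem _) hP0 hP1.le
  have he0 : e ≠ 0 := by rintro rfl; rw [pow_zero] at he; exact hP1.ne he
  -- `e` divides the degree
  have hen : e ∣ Module.finrank L F := by
    have hint : IsIntegral L ϖ := Algebra.IsIntegral.isIntegral ϖ
    have hd : (minpoly L ϖ).natDegree ∣ Module.finrank L F := by
      have := minpoly.degree_dvd (K := L) (Algebra.IsIntegral.isIntegral (R := L) (⟨ϖ, hϖF⟩ : F))
      rwa [← minpoly.algHom_eq F.val Subtype.val_injective] at this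
    refine dvd_trans ?_ hd
    have hspl : ((minpoly L ϖ).map (algebraMap L Ω)).Splits := IsAlgClosed.splits _
    haveI : IsAlgClosure L Ω := ⟨inferInstance, inferInstance⟩
    have hc : W.valuation (algebraMap L Ω ((minpoly L ϖ).coeff 0)) = W.valuation ϖ ^ (minpoly L ϖ).natDegree := by
      rw [← coeff_map, hspl.coeff_zero_eq_prod_roots_of_monic ((minpoly.monic hint).map _), natDegree_map, map_mul,
        map_pow, Valuation.map_neg, map_one, one_pow, one_mul, map_multiset_prod]
      rw [Multiset.prod_eq_pow_single (W.valuation ϖ)]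
      · rw [Multiset.count_eq_card.2 ?_, Multiset.card_map, ← hspl.natDegree_eq_card_roots, natDegree_map]
        intro y hy
        obtain ⟨r, hr, rfl⟩ := Multiset.mem_map.1 hy
        obtain ⟨σ, hσ⟩ := minpoly.exists_algEquiv_of_root (Algebra.IsAlgebraic.isAlgebraic ϖ) (show aeval r (minpoly L ϖ) = 0 by
          rw [aeval_def, ← eval_map]; exact (mem_roots'.1 hr).2)
        show W.valuation ϖ = W.valuation r
        rw [← hσ, valuation_algEquiv hW σ]
      · intro y hy hmem
        obtain ⟨r, hr, rfl⟩ := Multiset.mem_map.1 hmem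
        obtain ⟨σ, hσ⟩ := minpoly.exists_algEquiv_of_root (Algebra.IsAlgebraic.isAlgebraic ϖ) (show aeval r (minpoly L ϖ) = 0 by
          rw [aeval_def, ← eval_map]; exact (mem_roots'.1 hr).2)
        exact absurd (by show W.valuation r = W.valuation ϖ; rw [← hσ, valuation_algEquiv hW σ]) hy
    obtain ⟨a, b, hb, hab⟩ := IsFractionRing.div_surjective (A := B) ((minpoly L ϖ).coeff 0)
    have hπB : Irreducible (algebraMap A B π) := by
      rw [IsDiscreteValuationRing.irreducible_iff_uniformizer, ← hw, hπ.maximalIdeal_eq, Ideal.map_span,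
        Set.image_singleton]
    letI : Algebra B Ω := ((algebraMap L Ω).comp (algebraMap B L)).toAlgebra
    have hu : ∀ v : Bˣ, W.valuation (algebraMap L Ω (algebraMap B L v)) = 1 := fun v =>
      valuation_eq_one_of_isUnit (A := B) (L := Ω) hW v.isUnit
    have ha0 : a ≠ 0 := by
      rintro rfl
      rw [map_zero, zero_div] at hab
      rw [← hab, map_zero, map_zero] at hc
      exact pow_ne_zero _ ((Valuation.ne_zero_iff _).2 hϖ0) hc.symm
    obtain ⟨i, v₁, hi⟩ := IsDiscreteValuationRing.eq_unit_mul_pow_irreducible ha0 hπB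
    obtain ⟨j, v₂, hj⟩ := IsDiscreteValuationRing.eq_unit_mul_pow_irreducible (nonZeroDivisors.ne_zero hb) hπB
    rw [← hab, hi, hj] at hc
    simp only [map_div₀, map_mul, map_pow, hu, one_mul, ← hPL, he, ← pow_mul] at hc
    rw [div_eq_iff (pow_ne_zero _ ((Valuation.ne_zero_iff _).2 hϖ0)), ← pow_add] at hc
    have hinj := pow_right_injective₀ (zero_lt_iff.2 ((Valuation.ne_zero_iff _).2 hϖ0)) hϖ1.ne hc
    exact (Nat.dvd_add_left (dvd_mul_right e j)).1 ⟨i, hinj.symm⟩
  have hpe : ¬ p ∣ e := fun h => hn (h.trans hen)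
  obtain ⟨θ, hθ⟩ := IsAlgClosed.exists_pow_nat_eq P (Nat.pos_of_ne_zero he0)
  let E : IntermediateField K Ω := IntermediateField.adjoin K {θ}
  haveI : FiniteDimensional K E := IntermediateField.adjoin.finiteDimensional
    (IsIntegral.of_pow (Nat.pos_of_ne_zero he0) (hθ ▸ isIntegral_algebraMap))
  -- the unramified extension `F(θ / ϖ)`
  set u : Ω := P / ϖ ^ e
  have huF : u ∈ F := div_mem (hPL ▸ F.algebraMap_mem _) (pow_mem hϖF _)
  have hu1 : W.valuation u = 1 := by
    rw [map_div₀, map_pow, he, div_self (pow_ne_zero _ ((Valuation.ne_zero_iff _).2 hϖ0))]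
  let uO : OF := ⟨⟨u, huF⟩, (W.valuation_le_one_iff _).1 hu1.le⟩
  have huU : IsUnit uO := by
    by_contra hnu
    exact absurd hu1 ((valuation_lt_one_comap W (algebraMap F Ω)).1 ((ValuationSubring.valuation_lt_one_iff _ uO).1 hnu)).ne
  haveI : CharP (ResidueField B) p :=
    charP_of_injective_algebraMap (algebraMap (ResidueField A) (ResidueField B)).injective p
  haveI : CharP (ResidueField OF) p := by
    let f := ((algebraMap L F).comp (algebraMap B L)).codRestrict OF (dominates_F hW F).1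
    haveI : IsLocalHom f := isLocalHom_of_dominates _ _ (dominates_F hW F)
    exact (RingHom.charP_iff _ (ResidueField.map f).injective p).1 inferInstance
  have heU : IsUnit (e : OF) := by
    rw [← residue_ne_zero_iff_isUnit, map_natCast, Ne, CharP.cast_eq_zero_iff (ResidueField OF) p]
    exact hpe
  let G : IntermediateField K Ω := IntermediateField.adjoin K {ϖ}
  have hG : ∀ x ∈ G, x ∈ F := fun x hx =>
    (IntermediateField.adjoin_simple_le_iff.2 hϖF : G ≤ F.restrictScalars K) hx
  have hder : IsUnit (AdjoinRoot.mk (X ^ e - Polynomial.C uO) (derivative (X ^ e - Polynomial.C uO))) := by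
    rw [derivative_sub, derivative_C, sub_zero, derivative_X_pow, map_mul, map_pow, AdjoinRoot.mk_C, AdjoinRoot.mk_X]
    refine IsUnit.mul (heU.map _) (IsUnit.pow _ ((isUnit_pow_iff he0).1 ?_))
    have : AdjoinRoot.root (X ^ e - Polynomial.C uO) ^ e = AdjoinRoot.of _ uO := by
      rw [← AdjoinRoot.mk_X, ← map_pow, ← AdjoinRoot.mk_C, AdjoinRoot.mk_eq_mk]
    rw [this]
    exact huU.map _
  obtain ⟨-, ϖ', hϖ'G, hϖ'0, hϖ'1, hmax'⟩ := Tight.unramified hW (F := F)
    (⟨hG, ϖ, IntermediateField.mem_adjoin_simple_self K ϖ, hϖ0, hϖ1, hmax⟩ : Tight W G F) (X ^ e - Polynomial.C uO)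
    (monic_X_pow_sub_C _ he0) hder (θ / ϖ) (by
      rw [Polynomial.map_sub, Polynomial.map_pow, map_X, map_C, eval_sub, eval_pow, eval_X, eval_C, div_pow, hθ]
      exact sub_self u)
  set F' := F ⊔ IntermediateField.adjoin L {θ / ϖ}
  have hθF' : θ ∈ F' := by
    have := mul_mem ((le_sup_right : IntermediateField.adjoin L {θ / ϖ} ≤ F')
      (IntermediateField.mem_adjoin_simple_self L (θ / ϖ))) ((le_sup_left : F ≤ F') hϖF)
    rwa [div_mul_cancel₀ _ hϖ0] at this
  have hvθ : W.valuation θ = W.valuation ϖ := pow_left_inj₀ zero_le zero_le he0 |>.1 (by rw [← map_pow, hθ, he])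
  refine ⟨E, F', inferInstance, ?_, le_sup_left, fun x hx =>
    (IntermediateField.adjoin_simple_le_iff.2 hθF' : E ≤ F'.restrictScalars K) hx, θ,
    IntermediateField.mem_adjoin_simple_self K θ, fun h => hP0 (by rw [← hθ, h, zero_pow he0]), hvθ ▸ hϖ1,
    fun x hx hx1 => (hmax' x hx hx1).trans (hvθ ▸ hmax ϖ' (hG ϖ' hϖ'G) hϖ'1)⟩
  haveI := IntermediateField.adjoin.finiteDimensional (Algebra.IsIntegral.isIntegral (R := L) (θ / ϖ))
  exact IntermediateField.finiteDimensional_sup _ _

end Groth.Agent.EtRam7.Epp
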