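import Groth.Agent.EtRam7.Epp.Cases
import Mathlib

/-! The Kummer step. -/

set_option autoImplicit false
set_option linter.style.haveILetI false
set_option linter.unusedSectionVars false
universe u

namespace Groth.Agent.EtRam7.Epp

open IsLocalRing Polynomial

variable {A B K L Ω : Type u} [CommRing A] [IsDomain A] [IsDiscreteValuationRing A]
  [CommRing B] [IsDomain B] [IsDiscreteValuationRing B] [Algebra A B] [IsLocalHom (algebraMap A B)]
  [Field K] [Field L] [Algebra A K] [IsFractionRing A K] [Algebra B L] [IsFractionRing B L]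
  [Algebra K L] [Algebra A L] [IsScalarTower A K L] [IsScalarTower A B L]
  [Field Ω] [Algebra L Ω] [Algebra K Ω] [IsScalarTower K L Ω]
  {W : ValuationSubring Ω} (hW : EtRam.Dominates B ((algebraMap L Ω).comp (algebraMap B L)) W)

/-- `((1 + l X) ^ p - 1) / l ^ p`. -/
noncomputable def kummerPoly (p : ℕ) (l : Ω) : Polynomial Ω :=
  ∑ i ∈ Finset.Icc 1 p, Polynomial.C ((p.choose i : Ω) * l ^ i / l ^ p) * X ^ i

theorem kummerPoly_coeff (p : ℕ) (l : Ω) (i : ℕ) :
    (kummerPoly p l).coeff i = if i ∈ Finset.Icc 1 p then (p.choose i : Ω) * l ^ i / l ^ p else 0 := by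
  simp only [kummerPoly, finsetSum_coeff, coeff_C_mul, coeff_X_pow, mul_ite, mul_one, mul_zero, Finset.sum_ite_eq]

theorem kummerPoly_lam (p : ℕ) {l : Ω} (hl : l ≠ 0) :
    (1 + Polynomial.C l * X) ^ p = 1 + Polynomial.C (l ^ p) * kummerPoly p l := by
  rw [add_comm, add_pow]
  have h0 : Finset.range (p + 1) = insert 0 (Finset.Icc 1 p) := by ext; simp; omega
  rw [h0, Finset.sum_insert (by simp), kummerPoly, Finset.mul_sum]
  simp only [pow_zero, one_pow, mul_one, Nat.choose_zero_right, Nat.cast_one]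
  congr 1
  refine Finset.sum_congr rfl fun i _ => ?_
  rw [← mul_assoc, ← map_mul, mul_div_cancel₀ _ (pow_ne_zero _ hl), map_mul, map_natCast, mul_pow, map_pow]
  ring

set_option maxHeartbeats 1600000 in
include hW in
/-- Kummer step. -/
theorem exists_tight_kummer (p : ℕ) [Fact p.Prime] [CharZero Ω] [CharP (ResidueField A) p]
    [IsAlgClosed (ResidueField A)] [IsAlgClosed Ω]
    (hk : ∀ x : ResidueField B, (∀ n : ℕ, ∃ y : ResidueField B, y ^ (p ^ n) = x) ↔
      x ∈ Set.range (algebraMap (ResidueField A) (ResidueField B)))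
    {E : IntermediateField K Ω} [FiniteDimensional K E] {F : IntermediateField L Ω} [FiniteDimensional L F]
    (h : Tight W E F) {ζ : Ω} (hζ : IsPrimitiveRoot ζ p) (hζE : ζ ∈ E) {w : Ω} (hw : w ^ p ∈ F) :
    ∃ (E' : IntermediateField K Ω) (F' : IntermediateField L Ω), E ≤ E' ∧ FiniteDimensional K E' ∧
      FiniteDimensional L F' ∧ F ≤ F' ∧ w ∈ F' ∧ Tight W E' F' := by
  classical
  have hp : p.Prime := Fact.out
  obtain ⟨hEF, ϖ, hϖE, hϖ0, hϖ1, hmax⟩ := h
  by_cases hw0 : w = 0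
  · exact ⟨E, F, le_rfl, inferInstance, inferInstance, le_rfl, hw0 ▸ zero_mem F, hEF, ϖ, hϖE, hϖ0, hϖ1, hmax⟩
  obtain ⟨t, ht⟩ := IsAlgClosed.exists_pow_nat_eq ϖ hp.pos
  obtain ⟨E₀, F₀, hle, hfin₀, hfinF₀, hF₀, htE₀, hE₀F₀, ht1, hmax₀, hres₀⟩ :=
    Tight.root hW hEF hϖE hϖ0 hϖ1 hmax hp.pos ht
  have ht0 : t ≠ 0 := by rintro rfl; exact hϖ0 (by rw [← ht, zero_pow hp.ne_zero])
  have hFF₀ : F ≤ F₀ := hF₀ ▸ le_sup_left
  have hvt : W.valuation t ^ p = W.valuation ϖ := by rw [← map_pow, ht]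
  -- `λ = 1 - ζ`
  set l : Ω := 1 - ζ with hldef
  have hlE : l ∈ E := sub_mem (one_mem E) hζE
  have hl0 : l ≠ 0 := sub_ne_zero.2 (hζ.ne_one hp.one_lt).symm
  haveI : CharP (ResidueField W) p := by
    have hdA := dominates_A (A := A) (K := K) hW
    let f := ((algebraMap K Ω).comp (algebraMap A K)).codRestrict W hdA.1
    haveI : IsLocalHom f := isLocalHom_of_dominates _ _ hdA
    exact (RingHom.charP_iff _ (ResidueField.map f).injective p).1 inferInstance
  have hζ1 : W.valuation ζ = 1 :=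
    (pow_eq_one_iff.1 (by rw [← map_pow, hζ.pow_eq_one, map_one] : W.valuation ζ ^ p = 1)).resolve_right hp.ne_zero
  let ζW : W := ⟨ζ, (W.valuation_le_one_iff _).1 hζ1.le⟩
  have hζW : IsPrimitiveRoot ζW p := IsPrimitiveRoot.of_map_of_injective (f := W.subtype) hζ Subtype.val_injective
  obtain ⟨hlm, c₀, hc₀⟩ := lambda_facts hζW
  have hl1 : W.valuation l < 1 := (W.valuation_lt_one_iff (1 - ζW)).1 hlm
  have hvc₀ : W.valuation ((c₀ : W) : Ω) = 1 := (W.valuation_eq_one_iff _).1 c₀.isUnit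
  have hpc : (p : Ω) = l ^ (p - 1) * ((c₀ : W) : Ω) := congrArg Subtype.val hc₀
  have hvp : W.valuation (p : Ω) = W.valuation l ^ (p - 1) := by rw [hpc, map_mul, map_pow, hvc₀, mul_one]
  -- the polynomial
  set Q := kummerPoly p l
  have hlam := kummerPoly_lam p hl0
  obtain ⟨hQ, hQd⟩ := kummerPoly_facts (p := p) hl0 (P := Q) (by rw [hlam]; ring)
  have hpowp : ∀ u : Ω, (1 + l * u) ^ p = 1 + l ^ p * Q.eval u := fun u => by
    simpa using congrArg (Polynomial.eval u) hlam
  have hQE : ∀ i, Q.coeff i ∈ E := fun i => by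
    rw [kummerPoly_coeff]
    split_ifs
    · exact div_mem (mul_mem (natCast_mem E _) (pow_mem hlE _)) (pow_mem hlE _)
    · exact zero_mem E
  have hmid : ∀ i, 1 ≤ i → i < p → W.valuation (Q.coeff i) ≤ W.valuation l ^ (i - 1) := by
    intro i hi hip
    rw [kummerPoly_coeff, if_pos (Finset.mem_Icc.2 ⟨hi, hip.le⟩)]
    obtain ⟨c, hc⟩ := hp.dvd_choose_self (by omega) hip
    rw [hc, Nat.cast_mul, map_div₀, map_mul, map_mul, map_pow, map_pow, hvp,
      div_le_iff₀ (zero_lt_iff.2 (pow_ne_zero _ ((Valuation.ne_zero_iff _).2 hl0))), ← pow_add]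
    refine (mul_le_mul_left (mul_le_of_le_one_right' ((W.valuation_le_one_iff _).2 (natCast_mem W c))) _).trans ?_
    rw [← pow_add]
    exact pow_le_pow_right_of_le_one' hl1.le (by omega)
  have hQW : ∀ i, Q.coeff i ∈ W := fun i => by
    rcases lt_trichotomy i p with h | h | h
    · rcases Nat.eq_zero_or_pos i with rfl | hi
      · rw [kummerPoly_coeff, if_neg (by simp)]; exact zero_mem W
      · exact (W.valuation_le_one_iff _).1 ((hmid i hi h).trans (pow_le_one₀ zero_le hl1.le))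
    · have : Q.coeff i = 1 := by rw [h, ← hQd]; exact hQ.coeff_natDegree
      rw [this]; exact one_mem W
    · rw [coeff_eq_zero_of_natDegree_lt (hQd ▸ h)]; exact zero_mem W
  have hder : derivative Q = Polynomial.C ((c₀ : W) : Ω) * (1 + Polynomial.C l * X) ^ (p - 1) := by
    have h1 := congrArg derivative hlam
    rw [derivative_add, derivative_one, zero_add, derivative_C_mul, derivative_pow, derivative_add, derivative_one,
      zero_add, derivative_C_mul, derivative_X, mul_one, hpc] at h1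
    refine mul_left_cancel₀ (show (Polynomial.C (l ^ p) : Polynomial Ω) ≠ 0 by simpa using pow_ne_zero p hl0)
      (h1.symm.trans ?_)
    rw [map_mul, map_pow, show Polynomial.C (l ^ p) = Polynomial.C l ^ (p - 1) * Polynomial.C l by
      rw [← pow_succ, Nat.sub_add_cancel hp.one_le, map_pow]]
    ring
  have hlaw : ∀ x u : Ω, 1 + l * u ≠ 0 → Q.eval ((x - u) / (1 + l * u)) * (1 + l * u) ^ p = Q.eval x - Q.eval u := by
    intro x u hu
    have h1 := hpowp ((x - u) / (1 + l * u))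
    rw [show 1 + l * ((x - u) / (1 + l * u)) = (1 + l * x) / (1 + l * u) by field_simp; ring, div_pow,
      div_eq_iff (pow_ne_zero _ hu)] at h1
    refine mul_left_cancel₀ (pow_ne_zero p hl0) ?_
    linear_combination hpowp x - hpowp u - h1
  have hlin : W.valuation (Q.coeff 1 + 1) ≤ W.valuation l := by
    have h0 : Q.eval (-1) = 0 := by
      refine (mul_eq_zero.1 ?_).resolve_left (pow_ne_zero p hl0)
      have := hpowp (-1)
      rw [show 1 + l * -1 = ζ by rw [hldef]; ring, hζ.pow_eq_one] at this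
      linear_combination -this
    have hQ0 : Q.coeff 0 = 0 := by rw [kummerPoly_coeff, if_neg (by simp)]
    rw [eval_eq_sum_range, hQd, Finset.sum_range_succ, ← hQd, hQ.coeff_natDegree, one_mul, hQd,
      ← Finset.add_sum_erase _ _ (Finset.mem_range.2 hp.one_lt)] at h0
    set S := ∑ i ∈ (Finset.range p).erase 1, Q.coeff i * (-1) ^ i
    have hS : W.valuation S ≤ W.valuation l := W.valuation.map_sum_le fun i hi => by
      obtain ⟨hi1, hip⟩ := Finset.mem_erase.1 hi
      rcases Nat.eq_zero_or_pos i with rfl | hi0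
      · rw [hQ0, zero_mul, map_zero]; exact zero_le
      rw [map_mul, map_pow, Valuation.map_neg, map_one, one_pow, mul_one]
      exact (hmid i hi0 (Finset.mem_range.1 hip)).trans (pow_le_of_le_one zero_le hl1.le (by omega))
    rcases hp.eq_two_or_odd' with h2 | hodd
    · have : Q.coeff 1 + 1 = S + 2 := by
        rw [h2] at h0
        linear_combination -h0
      rw [this]
      refine (W.valuation.map_add _ _).trans (max_le hS ?_)
      have := hvp
      rw [h2, show (2 - 1 : ℕ) = 1 from rfl, pow_one, Nat.cast_ofNat] at this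
      exact this.le
    · have : Q.coeff 1 + 1 = S := by
        rw [hodd.neg_one_pow] at h0
        linear_combination -h0
      rw [this]; exact hS
  -- the unit
  obtain ⟨n, hn⟩ := exists_pole hW (hEF ϖ hϖE) hϖ0 hϖ1 hmax hw
  have hxn : w ^ p * ϖ ^ n ∈ F := mul_mem hw (pow_mem (hEF ϖ hϖE) n)
  have hxn0 : w ^ p * ϖ ^ n ≠ 0 := mul_ne_zero (pow_ne_zero _ hw0) (pow_ne_zero _ hϖ0)
  obtain ⟨m₁, hm₁⟩ := exists_eq_pow hW (hEF ϖ hϖE) hϖ0 hϖ1 hmax hxn hxn0 hn
  set u : Ω := w ^ p * ϖ ^ n / ϖ ^ m₁ with hu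
  have huF : u ∈ F := div_mem hxn (pow_mem (hEF ϖ hϖE) _)
  have hu1 : W.valuation u = 1 := by
    rw [map_div₀, map_pow, hm₁, div_self (pow_ne_zero _ ((Valuation.ne_zero_iff _).2 hϖ0))]
  set w₁ : Ω := w * t ^ n / t ^ m₁ with hw₁
  have hw₁p : w₁ ^ p = u := by
    rw [hw₁, hu, div_pow, mul_pow, ← pow_mul, ← pow_mul, mul_comm n p, mul_comm m₁ p, pow_mul, pow_mul, ht]
  have hp0 : (p : Ω) ≠ 0 := Nat.cast_ne_zero.2 hp.ne_zero
  have hp1 : W.valuation (p : Ω) < 1 := by rw [hvp]; exact pow_lt_one₀ zero_le hl1 (by have := hp.two_le; omega)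
  obtain ⟨N, hN⟩ := exists_eq_pow hW (hEF ϖ hϖE) hϖ0 hϖ1 hmax (natCast_mem F p) hp0 hp1.le
  obtain ⟨n₀, hn₀⟩ := exists_eq_pow hW (hE₀F₀ t htE₀) ht0 ht1 hmax₀ (hE₀F₀ l (hle hlE)) hl0 hl1.le
  have hn₀pos : 1 ≤ n₀ := Nat.one_le_iff_ne_zero.2 fun h => by rw [h, pow_zero] at hn₀; exact hl1.ne hn₀
  have hvϖ0 : 0 < W.valuation ϖ := zero_lt_iff.2 ((Valuation.ne_zero_iff _).2 hϖ0)
  -- extract `p`-th powers
  have halg : ∀ j, j ≤ N →
      (∃ m < N, ∃ R r d : Ω, d ∈ F ∧ r ∈ F₀ ∧ W.valuation r = 1 ∧ W.valuation d ≤ 1 ∧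
        W.valuation (r ^ p - R) ≤ W.valuation (p : Ω) ∧ u - R = ϖ ^ m * d ∧
        ∀ s ∈ F, W.valuation s ≤ 1 → ¬ W.valuation (d - s ^ p) < 1) ∨
      ∃ R r : Ω, R ∈ F ∧ r ∈ F₀ ∧ W.valuation r = 1 ∧
        W.valuation (r ^ p - R) ≤ W.valuation (p : Ω) ∧ W.valuation (u - R) ≤ W.valuation ϖ ^ j := by
    intro j
    induction j with
    | zero =>
      intro _
      refine Or.inr ⟨1, 1, one_mem F, one_mem F₀, map_one _, by simp, ?_⟩
      rw [pow_zero]
      exact (W.valuation.map_sub _ _).trans (max_le hu1.le (map_one _).le)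
    | succ j ih =>
      intro hj
      rcases ih (by omega) with h | ⟨R, r, hR, hr, hr1, herr, hclose⟩
      · exact Or.inl h
      set d : Ω := (u - R) / ϖ ^ j
      have hdF : d ∈ F := div_mem (sub_mem huF hR) (pow_mem (hEF ϖ hϖE) _)
      have hd1 : W.valuation d ≤ 1 := by
        rw [map_div₀, map_pow, div_le_one₀ (pow_pos hvϖ0 j)]; exact hclose
      have hde : u - R = ϖ ^ j * d := (mul_div_cancel₀ _ (pow_ne_zero _ hϖ0)).symm
      by_cases hres : ∀ s ∈ F, W.valuation s ≤ 1 → ¬ W.valuation (d - s ^ p) < 1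
      · exact Or.inl ⟨j, by omega, R, r, d, hdF, hr, hr1, hd1, herr, hde, hres⟩
      push Not at hres
      obtain ⟨s, hsF, hs1, hs⟩ := hres
      have hst : W.valuation (s * t ^ j) ≤ 1 := by
        rw [map_mul, map_pow]; exact mul_le_one' hs1 (pow_le_one₀ zero_le ht1.le)
      have hR' : W.valuation (u - (R + s ^ p * ϖ ^ j)) ≤ W.valuation ϖ ^ (j + 1) := by
        rw [show u - (R + s ^ p * ϖ ^ j) = ϖ ^ j * (d - s ^ p) by rw [← sub_sub, hde]; ring, map_mul, map_pow,
          pow_succ]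
        exact mul_le_mul_right (hmax _ (sub_mem hdF (pow_mem hsF p)) hs) _
      have herr' : W.valuation ((r + s * t ^ j) ^ p - (R + s ^ p * ϖ ^ j)) ≤ W.valuation (p : Ω) := by
        obtain ⟨k, hk⟩ := exists_add_pow_prime_eq hp (⟨r, (W.valuation_le_one_iff _).1 hr1.le⟩ : W)
          ⟨s * t ^ j, (W.valuation_le_one_iff _).1 hst⟩
        have hk' := congrArg Subtype.val hk
        push_cast at hk'
        have hst' : (s * t ^ j) ^ p = s ^ p * ϖ ^ j := by
          rw [mul_pow, ← pow_mul, mul_comm j p, pow_mul, ht]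
        rw [hk', hst', show ∀ X Y : Ω, r ^ p + s ^ p * ϖ ^ j + X - (Y + s ^ p * ϖ ^ j) = (r ^ p - Y) + X from
          fun X Y => by ring]
        refine (W.valuation.map_add _ _).trans (max_le herr ?_)
        rw [map_mul, map_mul, map_mul, mul_assoc, mul_assoc]
        exact mul_le_of_le_one_right' (mul_le_one' hr1.le (mul_le_one' hst
          ((W.valuation_le_one_iff _).2 k.2)))
      refine Or.inr ⟨R + s ^ p * ϖ ^ j, r + s * t ^ j, add_mem hR (mul_mem (pow_mem hsF p) (pow_mem (hEF ϖ hϖE) j)),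
        add_mem hr (mul_mem (hFF₀ hsF) (pow_mem (hE₀F₀ t htE₀) j)), ?_, herr', hR'⟩
      have h1 : W.valuation (R + s ^ p * ϖ ^ j) = 1 := by
        have h2 : W.valuation (u - (R + s ^ p * ϖ ^ j)) < W.valuation u := by
          rw [hu1]; exact hR'.trans_lt (pow_lt_one₀ zero_le hϖ1 j.succ_ne_zero)
        have := W.valuation.map_sub_eq_of_lt_left (x := u) (y := u - (R + s ^ p * ϖ ^ j)) h2
        rwa [sub_sub_cancel, hu1] at this
      refine (pow_eq_one_iff.1 (?_ : W.valuation (r + s * t ^ j) ^ p = 1)).resolve_right hp.ne_zero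
      rw [← map_pow, ← sub_add_cancel ((r + s * t ^ j) ^ p) (R + s ^ p * ϖ ^ j),
        W.valuation.map_add_eq_of_lt_right (by rw [h1]; exact herr'.trans_lt hp1), h1]
  -- membership of `w` once `(w₁ / r - 1) / l` is adjoined
  have hback : ∀ (E' : IntermediateField K Ω) (F' : IntermediateField L Ω), E₀ ≤ E' → (∀ x ∈ E', x ∈ F') →
      F₀ ≤ F' → ∀ r ∈ F₀, r ≠ 0 → (w₁ / r - 1) / l ∈ F' → w ∈ F' := by
    intro E' F' hE' hE'F' hF' r hr hr0 hz
    have h1 : w₁ ∈ F' := by
      have h2 := mul_mem (add_mem (one_mem F') (mul_mem (hE'F' l (hE' (hle hlE))) hz)) (hF' hr)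
      rwa [mul_div_cancel₀ _ hl0, add_sub_cancel, div_mul_cancel₀ _ hr0] at h2
    have h3 := mul_mem h1 (div_mem (pow_mem (hE'F' t (hE' htE₀)) m₁) (pow_mem (hE'F' t (hE' htE₀)) n))
    rwa [show w₁ * (t ^ m₁ / t ^ n) = w by rw [hw₁]; field_simp] at h3
  have hQz : ∀ r : Ω, r ≠ 0 → Q.eval ((w₁ / r - 1) / l) = (u - r ^ p) / (r ^ p * l ^ p) := by
    intro r hr
    have h1 := hpowp ((w₁ / r - 1) / l)
    rw [mul_div_cancel₀ _ hl0, add_sub_cancel, div_pow, hw₁p] at h1
    field_simp at h1 ⊢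
    linear_combination -h1
  have hpN : p * N = n₀ * (p - 1) := by
    refine pow_right_injective₀ (zero_lt_iff.2 ((Valuation.ne_zero_iff _).2 ht0)) ht1.ne ?_
    show W.valuation t ^ (p * N) = W.valuation t ^ (n₀ * (p - 1))
    rw [pow_mul, hvt, ← hN, hvp, hn₀, pow_mul]
  rcases halg N le_rfl with ⟨m, hm, R, r, d, hdF, hr, hr1, hd1, herr, hde, hres⟩ | ⟨R, r, hR, hr, hr1, herr, hclose⟩
  · have hr0 : r ≠ 0 := fun h => by rw [h, map_zero] at hr1; exact zero_ne_one hr1
    set a : Ω := (u - r ^ p) / ϖ ^ m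
    have had : W.valuation (a - d) < 1 := by
      rw [show a - d = (R - r ^ p) / ϖ ^ m by
        rw [eq_div_iff (pow_ne_zero _ hϖ0), sub_mul, div_mul_cancel₀ _ (pow_ne_zero _ hϖ0)]
        linear_combination hde, map_div₀, map_pow, Valuation.map_sub_swap, div_lt_one₀ (pow_pos hvϖ0 m)]
      exact herr.trans_lt (hN ▸ pow_lt_pow_right_of_lt_one₀ hvϖ0 hϖ1 hm)
    set q : Ω := t ^ n₀ / (r * l)
    have hvl0 : W.valuation l ≠ 0 := (Valuation.ne_zero_iff _).2 hl0
    have hq1 : W.valuation q = 1 := by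
      rw [map_div₀, map_mul, map_pow, hr1, one_mul, ← hn₀, div_self hvl0]
    have hq0 : q ≠ 0 := fun h => by rw [h, map_zero] at hq1; exact zero_ne_one hq1
    have hqF : q ∈ F₀ := div_mem (pow_mem (hE₀F₀ t htE₀) _) (mul_mem hr (hE₀F₀ l (hle hlE)))
    have hmn : p * m < p * n₀ := by
      have h1 : p * m < p * N := Nat.mul_lt_mul_of_pos_left hm hp.pos
      have h2 : n₀ * (p - 1) ≤ p * n₀ := by rw [mul_comm p n₀]; exact Nat.mul_le_mul_left _ (Nat.sub_le p 1)
      omega
    obtain ⟨z, hz⟩ : ∃ z, z = (w₁ / r - 1) / l := ⟨_, rfl⟩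
    have hza : Q.eval z * t ^ (p * n₀ - p * m) = a * q ^ p := by
      have he : t ^ (p * n₀ - p * m) * ϖ ^ m = (t ^ n₀) ^ p := by
        rw [← ht, ← pow_mul, ← pow_mul, ← pow_add, Nat.sub_add_cancel hmn.le, mul_comm]
      rw [hz, hQz r hr0]
      simp only [a, q]
      rw [div_pow, ← he]
      field_simp
      ring
    have ha1 : W.valuation (a * q ^ p) ≤ 1 := by
      rw [map_mul, map_pow, hq1, one_pow, mul_one, ← sub_add_cancel a d]
      exact (W.valuation.map_add _ _).trans (max_le had.le hd1)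
    have haF : a * q ^ p ∈ F₀ :=
      mul_mem (div_mem (sub_mem (hFF₀ huF) (pow_mem hr p)) (pow_mem (hFF₀ (hEF ϖ hϖE)) _)) (pow_mem hqF p)
    haveI : CharP (ResidueField B) p :=
      charP_of_injective_algebraMap (algebraMap (ResidueField A) (ResidueField B)).injective p
    have hins := Tight.inseparable hW p hE₀F₀ htE₀ ht0 ht1 hmax₀ Q hQ hQd (fun i => hE₀F₀ _ (hle (hQE i))) hQW
      (Nat.sub_pos_of_lt hmn) (Nat.dvd_sub (dvd_mul_right p n₀) (dvd_mul_right p m)) haF ha1
      (fun s hsF hs1 hs => by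
        have hsq : W.valuation (s / q) ≤ 1 := by rw [map_div₀, hq1, div_one]; exact hs1
        obtain ⟨y, hyF, hy⟩ := hres₀ (s / q) (div_mem hsF hqF) hsq
        have hy1 : W.valuation y ≤ 1 := by
          rw [show y = s / q - (s / q - y) by ring]; exact (W.valuation.map_sub _ _).trans (max_le hsq hy.le)
        refine hres y hyF hy1 ?_
        have h1 : W.valuation (a - (s / q) ^ p) < 1 := by
          rw [show a - (s / q) ^ p = (a * q ^ p - s ^ p) / q ^ p by rw [eq_div_iff (pow_ne_zero _ hq0), sub_mul, div_pow s q p, div_mul_cancel₀ _ (pow_ne_zero _ hq0)], map_div₀, map_pow, hq1, one_pow,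
            div_one]
          exact hs
        have h2 : W.valuation ((s / q) ^ p - y ^ p) < 1 := by
          rw [← geom_sum₂_mul (s / q) y p, map_mul]
          refine mul_lt_one_right' (W.valuation.map_sum_le fun i _ => ?_) hy
          rw [map_mul, map_pow, map_pow]
          exact mul_le_one' (pow_le_one₀ zero_le hsq) (pow_le_one₀ zero_le hy1)
        rw [show d - y ^ p = (a - (s / q) ^ p) - (a - d) + ((s / q) ^ p - y ^ p) by ring]
        exact W.valuation.map_add_lt (W.valuation.map_sub_lt h1 had) h2) hza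
    refine ⟨E₀, F₀ ⊔ IntermediateField.adjoin L {z}, hle, hfin₀, ?_, hFF₀.trans le_sup_left, ?_, hins⟩
    · have hint : IsIntegral L z := by
        haveI : Algebra.IsAlgebraic L F₀ := inferInstance
        let i₁ : F₀ →+* Ω := algebraMap F₀ Ω
        obtain ⟨Q₁, hQ₁⟩ : ∃ Q₁ : F₀[X], Q₁.map i₁ = Q := (mem_map_range (f := i₁)).2 fun i =>
          ⟨⟨_, hE₀F₀ _ (hle (hQE i))⟩, rfl⟩
        have hQ₁m : Q₁.Monic := monic_of_injective i₁.injective (hQ₁ ▸ hQ)
        have hev : Q.eval z ∈ F₀ := by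
          rw [hz, hQz r hr0]
          exact div_mem (sub_mem (hFF₀ huF) (pow_mem hr p)) (mul_mem (pow_mem hr p) (pow_mem (hE₀F₀ l (hle hlE)) p))
        refine isIntegral_trans (A := F₀) z ⟨Q₁ - Polynomial.C ⟨_, hev⟩, hQ₁m.sub_of_left (lt_of_le_of_lt degree_C_le ?_), ?_⟩
        · rw [degree_eq_natDegree hQ₁m.ne_zero, ← natDegree_map_eq_of_injective i₁.injective, hQ₁, hQd]
          exact_mod_cast hp.pos
        · rw [eval₂_sub, eval₂_C, ← eval_map, hQ₁]; exact sub_self _
      haveI := IntermediateField.adjoin.finiteDimensional hint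
      exact IntermediateField.finiteDimensional_sup _ _
    · exact hback E₀ _ le_rfl hins.1 le_sup_left r hr hr0 (hz ▸ (le_sup_right : IntermediateField.adjoin L {z} ≤ _)
        (IntermediateField.mem_adjoin_simple_self L z))
  · have hr0 : r ≠ 0 := fun h => by rw [h, map_zero] at hr1; exact zero_ne_one hr1
    obtain ⟨z, hz⟩ : ∃ z, z = (w₁ / r - 1) / l := ⟨_, rfl⟩
    have hvl0 : 0 < W.valuation l := zero_lt_iff.2 ((Valuation.ne_zero_iff _).2 hl0)
    have hbF : Q.eval z * t ^ n₀ ∈ F₀ := by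
      rw [hz, hQz r hr0]
      exact mul_mem (div_mem (sub_mem (hFF₀ huF) (pow_mem hr p)) (mul_mem (pow_mem hr p)
        (pow_mem (hE₀F₀ l (hle hlE)) p))) (pow_mem (hE₀F₀ t htE₀) _)
    have hb : W.valuation (Q.eval z * t ^ n₀) ≤ 1 := by
      have h1 : W.valuation (u - r ^ p) ≤ W.valuation (p : Ω) := by
        rw [show u - r ^ p = (u - R) - (r ^ p - R) by ring]
        exact (W.valuation.map_sub _ _).trans (max_le (hclose.trans_eq hN.symm) herr)
      rw [hz, hQz r hr0, map_mul, map_div₀, map_mul, map_pow, map_pow, map_pow, hr1, one_pow, one_mul, ← hn₀,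
        div_mul_eq_mul_div, div_le_one₀ (pow_pos hvl0 p)]
      refine (mul_le_mul_left h1 _).trans (le_of_eq ?_)
      rw [hvp, ← pow_succ, Nat.sub_add_cancel hp.one_le]
    have hsmall : ∀ (x v : Ω) (k i : ℕ), W.valuation v ^ p * W.valuation t ^ n₀ ≤ 1 →
        W.valuation x ≤ W.valuation l ^ k → i ≤ p * k → W.valuation (x * v ^ i) ≤ 1 := by
      intro x v k i hv hx hik
      refine (pow_le_one_iff_of_nonneg zero_le hp.ne_zero).1 ?_
      rw [map_mul, map_pow, mul_pow, ← pow_mul, mul_comm i p, pow_mul]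
      refine (mul_le_mul_left (pow_le_pow_left₀ zero_le hx p) _).trans ?_
      rw [← pow_mul, mul_comm k p, show p * k = (p * k - i) + i by omega, pow_add, mul_assoc, ← mul_pow]
      refine mul_le_one' (pow_le_one₀ zero_le hl1.le) (pow_le_one₀ zero_le ?_)
      rw [hn₀, mul_comm]; exact hv
    obtain ⟨E', F', h1, h2, h3, h4, h5, h6⟩ := exists_tight_step hW p hk hE₀F₀ htE₀ ht0 ht1 hmax₀ Q hQ hQd
      (fun i => hle (hQE i)) hQW l (hle hlE) hl1 hlam ((c₀ : W) : Ω)
      (hle (by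
        rw [show ((c₀ : W) : Ω) = (p : Ω) / l ^ (p - 1) by rw [hpc]; field_simp]
        exact div_mem (natCast_mem E p) (pow_mem hlE _)))
      hvc₀ hder hlaw n₀ (hn₀ ▸ pow_lt_self_of_lt_one₀ hvl0 hl1 hp.one_lt)
      (by rw [mul_comm 2 n₀, pow_mul, ← hn₀]; exact pow_le_pow_right_of_le_one' hl1.le hp.two_le)
      (by rw [hvp, ← hn₀]; exact pow_le_of_le_one zero_le hl1.le (by have := hp.two_le; omega))
      (fun v hv => by
        have hQ0 : Q.coeff 0 = 0 := by rw [kummerPoly_coeff, if_neg (by simp)]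
        rw [eval_eq_sum_range, hQd, Finset.sum_range_succ, ← hQd, hQ.coeff_natDegree, one_mul, hQd,
          ← Finset.add_sum_erase _ _ (Finset.mem_range.2 hp.one_lt), pow_one,
          show ∀ S : Ω, Q.coeff 1 * v + S + v ^ p - (v ^ p - v) = (Q.coeff 1 + 1) * v + S from fun S => by ring]
        refine (W.valuation.map_add _ _).trans (max_le ?_ (W.valuation.map_sum_le fun i hi => ?_))
        · simpa using hsmall (Q.coeff 1 + 1) v 1 1 hv (by rw [pow_one]; exact hlin) (by have := hp.one_le; omega)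
        · obtain ⟨hi1, hip⟩ := Finset.mem_erase.1 hi
          rcases Nat.eq_zero_or_pos i with rfl | hi0
          · rw [hQ0, zero_mul, map_zero]; exact zero_le
          refine hsmall _ v (i - 1) i hv (hmid i hi0 (Finset.mem_range.1 hip)) ?_
          calc i ≤ 2 * (i - 1) := by omega
            _ ≤ p * (i - 1) := Nat.mul_le_mul_right _ hp.two_le)
      hbF hb rfl
    exact ⟨E', F', hle.trans h1, h2, h3, hFF₀.trans h4, hback E' F' h1 h6.1 h4 r hr hr0 (hz ▸ h5), h6⟩

end Groth.Agent.EtRam7.Epp
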