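import Groth.Agent.EtRam7.Epp.KummerStep
import Mathlib

/-! Eliminating ramification for finite extensions over a complete weakly unramified base. -/

set_option autoImplicit false
set_option linter.style.haveILetI false
set_option linter.unusedSectionVars false
universe u

namespace Groth.Agent.EtRam7.Epp

open IsLocalRing Polynomial

variable {A B K L Ω : Type u} [CommRing A] [IsDomain A] [IsDiscreteValuationRing A]
  [CommRing B] [IsDomain B] [IsDiscreteValuationRing B] [Algebra A B] [IsLocalHom (algebraMap A B)]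
  [Field K] [Field L] [Algebra A K] [IsFractionRing A K] [Algebra B L] [IsFractionRing B L]
  [Algebra K L] [Algebra A L] [IsScalarTower A K L] [IsScalarTower A B L]
  [Field Ω] [Algebra L Ω] [Algebra K Ω] [IsScalarTower K L Ω]
  {W : ValuationSubring Ω} (hW : EtRam.Dominates B ((algebraMap L Ω).comp (algebraMap B L)) W)

/-- A homomorphism onto `ZMod p` from a nontrivial `p`-group, with smaller kernel. -/
theorem exists_hom_zmod {G : Type u} [Group G] [Finite G] {p : ℕ} [Fact p.Prime] (hG : IsPGroup p G)
    (hne : Nat.card G ≠ 1) :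
    ∃ (H : Subgroup G) (χ : G →* Multiplicative (ZMod p)),
      (∀ g, χ g = 1 → g ∈ H) ∧ Nat.card H < Nat.card G := by
  have hp : p.Prime := Fact.out
  obtain ⟨m, hm⟩ := hG.exists_card_eq
  obtain ⟨k, rfl⟩ : ∃ k, m = k + 1 := ⟨m - 1, by
    rcases Nat.eq_zero_or_pos m with rfl | h
    · exact absurd (by simpa using hm) hne
    · omega⟩
  obtain ⟨H, hH⟩ := Sylow.exists_subgroup_card_pow_prime (G := G) p (n := k) (hm ▸ pow_dvd_pow p k.le_succ)
  have hidx : H.index = p := by
    have h1 := H.card_mul_index
    rw [hH, hm, pow_succ] at h1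
    exact Nat.eq_of_mul_eq_mul_left (pow_pos hp.pos k) h1
  haveI : H.Normal := Subgroup.normal_of_index_eq_minFac_card (by
    rw [hidx, hm, Nat.pow_minFac k.succ_ne_zero, hp.minFac_eq])
  have hcard : Nat.card (G ⧸ H) = p := hidx
  haveI : IsCyclic (G ⧸ H) := isCyclic_of_prime_card hcard
  let e : Multiplicative (ZMod p) ≃* (G ⧸ H) := hcard ▸ zmodCyclicMulEquiv (inferInstanceAs (IsCyclic (G ⧸ H)))
  refine ⟨H, e.symm.toMonoidHom.comp (QuotientGroup.mk' H), fun g hg => ?_, ?_⟩
  · rw [MonoidHom.comp_apply, MulEquiv.coe_toMonoidHom, MulEquiv.map_eq_one_iff] at hg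
    exact (QuotientGroup.eq_one_iff g).1 hg
  · rw [hH, hm]
    exact Nat.pow_lt_pow_right hp.one_lt k.lt_succ_self

include hW in
/-- A chain of degree `p` steps. -/
theorem exists_tight_pGroup (p : ℕ) [Fact p.Prime] [CharP (ResidueField A) p]
    [IsAlgClosed (ResidueField A)] [IsAlgClosed Ω]
    (hk : ∀ x : ResidueField B, (∀ n : ℕ, ∃ y : ResidueField B, y ^ (p ^ n) = x) ↔
      x ∈ Set.range (algebraMap (ResidueField A) (ResidueField B)))
    (S : IntermediateField L Ω) [FiniteDimensional L S] [IsGalois L S] :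
    ∀ (n : ℕ) (H : Subgroup (S ≃ₐ[L] S)), Nat.card H = n → IsPGroup p H →
      (CharP Ω p ∨ CharZero Ω ∧ ∃ ζ : S, IsPrimitiveRoot ζ p ∧ ∀ σ ∈ H, σ ζ = ζ) →
      ∀ (E : IntermediateField K Ω) (F : IntermediateField L Ω), FiniteDimensional K E → FiniteDimensional L F →
        Tight W E F → (CharP Ω p ∨ ∃ ζ ∈ E, IsPrimitiveRoot ζ p) →
        (∀ x ∈ IntermediateField.fixedField H, (x : Ω) ∈ F) →
        ∃ (E' : IntermediateField K Ω) (F' : IntermediateField L Ω), FiniteDimensional K E' ∧ FiniteDimensional L F' ∧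
          S ≤ F' ∧ Tight W E' F' := by
  have hp : p.Prime := Fact.out
  intro n
  induction n using Nat.strong_induction_on with
  | _ n ih =>
    intro H hn hpg hchar E F hE hF hT hζE hfix
    by_cases h1 : Nat.card H = 1
    · refine ⟨E, F, hE, hF, fun x hx => hfix ⟨x, hx⟩ ?_, hT⟩
      rw [Subgroup.card_eq_one.1 h1, IntermediateField.fixedField_bot]
      exact IntermediateField.mem_top
    obtain ⟨H', χ, hker, hlt⟩ := exists_hom_zmod hpg h1
    set M := IntermediateField.fixedField H
    let e : H ≃* (S ≃ₐ[M] S) := IntermediateField.subgroupEquivAlgEquiv H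
    have he : ∀ (σ : H) (x : S), e σ x = (σ : S ≃ₐ[L] S) x := fun σ x => rfl
    -- the new generator
    obtain ⟨x, hxM, hgen, E', F', hle, hfinE', hfinF', hFF', hxF', hT'⟩ : ∃ x : S, (∀ σ : H, χ σ ≠ 1 → (σ : S ≃ₐ[L] S) x ≠ x) ∧
        True ∧ ∃ (E' : IntermediateField K Ω) (F' : IntermediateField L Ω), E ≤ E' ∧ FiniteDimensional K E' ∧
          FiniteDimensional L F' ∧ F ≤ F' ∧ (x : Ω) ∈ F' ∧ Tight W E' F' := by
      rcases hchar with hcp | ⟨hc0, ζ, hζ, hζfix⟩
      · haveI : CharP S p := (RingHom.charP_iff (algebraMap S Ω) (algebraMap S Ω).injective p).2 hcp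
        haveI : CharP M p := (RingHom.charP_iff (algebraMap M S) (algebraMap M S).injective p).2 inferInstance
        obtain ⟨x, ⟨c, hc⟩, hx⟩ := GalCohX.exists_artinSchreier (K := M) (L := S) p
          (fun σ => Multiplicative.toAdd (χ (e.symm σ))) (fun σ τ => by rw [map_mul, map_mul, toAdd_mul])
          (IsLocallyConstant.of_discrete _)
        refine ⟨x, fun σ hσ heq => hσ ?_, trivial, ?_⟩
        · have h2 := hx (e σ)
          rw [he, heq, sub_self, MulEquiv.symm_apply_apply] at h2
          have h3 : Multiplicative.toAdd (χ σ) = 0 := by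
            haveI : NeZero p := ⟨hp.ne_zero⟩
            refine (ZMod.val_eq_zero _).1 ?_
            have h4 := (CharP.cast_eq_zero_iff S p _).1 h2.symm
            exact Nat.eq_zero_of_dvd_of_lt h4 (ZMod.val_lt _)
          exact toAdd_eq_zero.1 h3
        · refine exists_tight_artinSchreier (A := A) (K := K) hW p hk hT (z := (x : Ω)) ?_
          have h2 : ((x : Ω) ^ p - x) = ((algebraMap M S c : S) : Ω) := by rw [hc]; push_cast; rfl
          rw [h2]
          exact hfix _ c.2
      · haveI : CharZero S := (algebraMap L S).charZero_iff (algebraMap L S).injective |>.1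
          ((algebraMap L Ω).charZero_iff (algebraMap L Ω).injective |>.2 hc0)
        have hζM : ∀ τ : S ≃ₐ[M] S, τ ζ = ζ := fun τ => by
          obtain ⟨σ, rfl⟩ := e.surjective τ
          rw [he]; exact hζfix σ σ.2
        haveI : NeZero p := ⟨hp.ne_zero⟩
        let ζu : Sˣ := (hζ.isUnit hp.ne_zero).unit
        have hζu : ζu ^ p = 1 := Units.ext (by simpa [ζu] using hζ.pow_eq_one)
        obtain ⟨α, ⟨c, hc⟩, hα⟩ := GalCohX.exists_kummer (K := M) (L := S) (n := p)
          (fun σ => ζu ^ (Multiplicative.toAdd (χ (e.symm σ))).val) (fun σ τ => by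
            have hfixu : σ • ζu = ζu := Units.ext (hζM σ)
            rw [smul_pow', hfixu, ← pow_add, map_mul, map_mul, toAdd_mul, ZMod.val_add]
            exact (pow_eq_pow_mod _ hζu).symm)
          (fun σ => by rw [← pow_mul, mul_comm, pow_mul, hζu, one_pow]) (IsLocallyConstant.of_discrete _)
        refine ⟨(α : S), fun σ hσ heq => hσ ?_, trivial, ?_⟩
        · have h2 := congrArg Units.val (hα (e σ))
          simp only [MulEquiv.symm_apply_apply, Units.val_pow_eq_pow_val, Units.val_mul, Units.smul_def] at h2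
          rw [show ((e σ • α : Sˣ) : S) = e σ (α : S) from rfl, he, heq, Units.inv_mul] at h2
          have h3 : (Multiplicative.toAdd (χ σ)).val = 0 := Nat.eq_zero_of_dvd_of_lt
            (hζ.dvd_of_pow_eq_one _ (by simpa [ζu] using h2)) (ZMod.val_lt _)
          exact toAdd_eq_zero.1 ((ZMod.val_eq_zero _).1 h3)
        · rcases hζE with hcp | ⟨ζ', hζ'E, hζ'⟩
          · haveI := hcp
            exact absurd (CharP.cast_eq_zero Ω p) (Nat.cast_ne_zero.2 hp.ne_zero)
          refine exists_tight_kummer (A := A) (K := K) hW p hk hT hζ' hζ'E ?_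
          have h2 : ((α : S) : Ω) ^ p = ((algebraMap M S c : S) : Ω) := by rw [hc]; simp
          rw [h2]
          exact hfix _ c.2
    -- the smaller subgroup
    let H'' : Subgroup (S ≃ₐ[L] S) := H'.map H.subtype
    have hcard : Nat.card H'' = Nat.card H' := Nat.card_congr (H'.equivMapOfInjective H.subtype H.subtype_injective).symm.toEquiv
    have hle' : H'' ≤ H := Subgroup.map_subtype_le H'
    refine ih (Nat.card H'') (hcard ▸ hn ▸ hlt) H'' rfl (hpg.to_le hle') ?_ E' F' hfinE' hfinF' hT' ?_ ?_
    · exact hchar.imp_right fun ⟨h0, ζ, hζ, hfixζ⟩ => ⟨h0, ζ, hζ, fun σ hσ => hfixζ σ (hle' hσ)⟩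
    · exact hζE.imp_right fun ⟨ζ, hζ, h⟩ => ⟨ζ, hle hζ, h⟩
    intro y hy
    let T : IntermediateField L S := F'.comap S.val
    have hsub : IntermediateField.fixedField H'' ≤ T := by
      have hTle : T.fixingSubgroup ≤ H'' := fun σ hσ => by
        have hσH : σ ∈ H := by
          rw [← IntermediateField.fixingSubgroup_fixedField H]
          exact IntermediateField.fixingSubgroup_antitone (F := L) (show M ≤ T from fun z hz => hFF' (hfix z hz)) hσ
        refine ⟨⟨σ, hσH⟩, hker _ (not_not.1 fun hne => hxM ⟨σ, hσH⟩ hne ?_), rfl⟩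
        exact (IntermediateField.mem_fixingSubgroup_iff T σ).1 hσ x hxF'
      calc IntermediateField.fixedField H'' ≤ IntermediateField.fixedField T.fixingSubgroup :=
            IntermediateField.fixedField_antitone hTle
        _ = T := IsGalois.fixedField_fixingSubgroup T
    exact hsub hy

include hW in
/-- Every finite Galois extension is tame followed by a `p`-chain. -/
theorem exists_tight_galois (p : ℕ) [Fact p.Prime] [CharP (ResidueField A) p]
    [IsAlgClosed (ResidueField A)] [IsAlgClosed Ω] [IsAdicComplete (maximalIdeal B) B] [Algebra.IsAlgebraic L Ω]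
    (hw : EtRam.IsWeaklyUnramified A B)
    (hk : ∀ x : ResidueField B, (∀ n : ℕ, ∃ y : ResidueField B, y ^ (p ^ n) = x) ↔
      x ∈ Set.range (algebraMap (ResidueField A) (ResidueField B)))
    (hchar : CharP Ω p ∨ CharZero Ω) (S : IntermediateField L Ω) [FiniteDimensional L S] [IsGalois L S]
    (hζS : CharZero Ω → ∃ ζ : S, IsPrimitiveRoot ζ p) :
    ∃ (E : IntermediateField K Ω) (F : IntermediateField L Ω), FiniteDimensional K E ∧ FiniteDimensional L F ∧
      S ≤ F ∧ Tight W E F := by
  classical
  have hp : p.Prime := Fact.out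
  -- the field of roots of unity
  obtain ⟨T, hTdeg, hT⟩ : ∃ T : IntermediateField L S, ¬ p ∣ Module.finrank L T ∧
      (CharP Ω p ∨ CharZero Ω ∧ ∃ ζ : S, IsPrimitiveRoot ζ p ∧ ζ ∈ T) := by
    rcases hchar with hc | hc
    · exact ⟨⊥, by rw [IntermediateField.finrank_bot]; exact hp.not_dvd_one, Or.inl hc⟩
    · obtain ⟨ζ, hζ⟩ := hζS hc
      refine ⟨IntermediateField.adjoin L {ζ}, ?_, Or.inr ⟨hc, ζ, hζ, IntermediateField.mem_adjoin_simple_self L ζ⟩⟩
      have hint : IsIntegral L ζ := Algebra.IsIntegral.isIntegral ζ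
      rw [IntermediateField.adjoin.finrank hint]
      intro hdvd
      have hle := Nat.le_of_dvd (minpoly.natDegree_pos hint) hdvd
      have h0 : aeval ζ (cyclotomic p L) = 0 := by
        rw [aeval_def, eval₂_eq_eval_map, map_cyclotomic]
        haveI : CharZero S := (algebraMap L S).charZero_iff (algebraMap L S).injective |>.1
          ((algebraMap L Ω).charZero_iff (algebraMap L Ω).injective |>.2 hc)
        exact (isRoot_cyclotomic_iff_charZero hp.pos).2 hζ
      have h2 := natDegree_le_of_dvd (minpoly.dvd L ζ h0) (cyclotomic_ne_zero p L)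
      rw [natDegree_cyclotomic, Nat.totient_prime hp] at h2
      have := hp.two_le
      omega
  -- a Sylow subgroup of its group
  set H₀ := T.fixingSubgroup
  let P : Sylow p H₀ := default
  let H : Subgroup (S ≃ₐ[L] S) := (P : Subgroup H₀).map H₀.subtype
  have hle : H ≤ H₀ := Subgroup.map_subtype_le _
  have hHp : IsPGroup p H := P.2.map _
  have hdeg : ¬ p ∣ Module.finrank L (IntermediateField.fixedField H) := by
    have h1 : Module.finrank L (IntermediateField.fixedField H) * Nat.card H = Module.finrank L S := by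
      rw [← IntermediateField.finrank_fixedField_eq_card H]
      exact Module.finrank_mul_finrank L (IntermediateField.fixedField H) S
    have hH : Nat.card H = Nat.card (P : Subgroup H₀) :=
      Nat.card_congr ((P : Subgroup H₀).equivMapOfInjective H₀.subtype H₀.subtype_injective).symm.toEquiv
    have h2 : Nat.card (P : Subgroup H₀) * (P : Subgroup H₀).index = Nat.card H₀ := (P : Subgroup H₀).card_mul_index
    have h3 : Module.finrank L T * Nat.card H₀ = Module.finrank L S := by
      have h4 := Module.finrank_mul_finrank L T S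
      rw [IntermediateField.finrank_eq_fixingSubgroup_index, Subgroup.index] at *
      rw [← h4]
      congr 1
      exact IsGalois.card_fixingSubgroup_eq_finrank T
    have hpos : 0 < Nat.card H := Nat.card_pos
    have h5 : Module.finrank L (IntermediateField.fixedField H) = Module.finrank L T * (P : Subgroup H₀).index := by
      refine Nat.eq_of_mul_eq_mul_right hpos ?_
      rw [h1, ← h3, ← h2, hH]; ring
    rw [h5, hp.dvd_mul]
    exact not_or.2 ⟨hTdeg, P.not_dvd_index⟩
  let F₀ : IntermediateField L Ω := (IntermediateField.fixedField H).map S.val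
  haveI : FiniteDimensional L F₀ :=
    Module.Finite.equiv ((IntermediateField.fixedField H).equivMap S.val).toLinearEquiv
  obtain ⟨E₁, F₁, hE₁, hF₁, hle₁, hT₁⟩ := exists_tight_tame (A := A) (K := K) hW p hw F₀ (by
    rwa [← ((IntermediateField.fixedField H).equivMap S.val).toLinearEquiv.finrank_eq])
  have hfix : ∀ x ∈ IntermediateField.fixedField H, (x : Ω) ∈ F₁ := fun x hx => hle₁ ⟨x, hx, rfl⟩
  rcases hT with hc | ⟨hc, ζ, hζ, hζT⟩
  · exact exists_tight_pGroup (A := A) (K := K) hW p hk S _ H rfl hHp (Or.inl hc) E₁ F₁ hE₁ hF₁ hT₁ (Or.inl hc) hfix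
  have hζH : ∀ σ ∈ H, σ ζ = ζ := fun σ hσ => (IntermediateField.mem_fixingSubgroup_iff T σ).1 (hle hσ) ζ hζT
  have hζΩ : IsPrimitiveRoot (ζ : Ω) p := hζ.map_of_injective (f := S.val) Subtype.val_injective
  let E₂ := E₁ ⊔ IntermediateField.adjoin K {(ζ : Ω)}
  haveI : FiniteDimensional K (IntermediateField.adjoin K {(ζ : Ω)}) :=
    IntermediateField.adjoin.finiteDimensional (IsIntegral.of_pow hp.pos (hζΩ.pow_eq_one ▸ isIntegral_one))
  haveI : FiniteDimensional K E₂ := IntermediateField.finiteDimensional_sup _ _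
  have hT₂ := Tight.extend (A := A) hW (le_sup_left : E₁ ≤ E₂) hT₁
  set F₂ := F₁ ⊔ IntermediateField.adjoin L (E₂ : Set Ω)
  haveI : FiniteDimensional L F₂ := by
    haveI : FiniteDimensional L (IntermediateField.adjoin L (E₂ : Set Ω)) := by
      have hr : (E₂ : Set Ω) = Set.range (algebraMap E₂ Ω) := by ext y; simp
      rw [hr]
      exact (adjoin_range_facts (A := A) (K := K) (L := L) (K₁ := E₂) (M' := Ω)).1
    exact IntermediateField.finiteDimensional_sup _ _
  refine exists_tight_pGroup (A := A) (K := K) hW p hk S _ H rfl hHp (Or.inr ⟨hc, ζ, hζ, hζH⟩) E₂ F₂ inferInstance inferInstance hT₂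
    (Or.inr ⟨(ζ : Ω), (le_sup_right : IntermediateField.adjoin K {(ζ : Ω)} ≤ E₂)
      (IntermediateField.mem_adjoin_simple_self K _), hζΩ⟩) fun x hx => (le_sup_left : F₁ ≤ F₂) (hfix x hx)

include hW in
/-- Every finite extension admits a tight base. -/
theorem exists_tight (p : ℕ) [Fact p.Prime] [CharP (ResidueField A) p]
    [IsAlgClosed (ResidueField A)] [IsAlgClosed Ω] [IsAdicComplete (maximalIdeal B) B] [Algebra.IsAlgebraic L Ω]
    (hw : EtRam.IsWeaklyUnramified A B)
    (hk : ∀ x : ResidueField B, (∀ n : ℕ, ∃ y : ResidueField B, y ^ (p ^ n) = x) ↔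
      x ∈ Set.range (algebraMap (ResidueField A) (ResidueField B)))
    (N : IntermediateField L Ω) [FiniteDimensional L N] :
    ∃ (E : IntermediateField K Ω) (F : IntermediateField L Ω), FiniteDimensional K E ∧ FiniteDimensional L F ∧
      N ≤ F ∧ Tight W E F := by
  classical
  have hp : p.Prime := Fact.out
  haveI : IsAlgClosure L Ω := ⟨inferInstance, inferInstance⟩
  obtain ⟨q, hq⟩ := CharP.exists L
  have hq' : CharP Ω p ∨ CharZero Ω := by
    rcases CharP.char_is_prime_or_zero L q with hqp | rfl
    · left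
      haveI : CharP B q := RingHom.charP (algebraMap B L) (IsFractionRing.injective B L) q
      haveI : CharP (ResidueField B) p :=
        charP_of_injective_algebraMap (algebraMap (ResidueField A) (ResidueField B)).injective p
      have h1 : ((q : ℕ) : ResidueField B) = 0 := by
        rw [← map_natCast (residue B), CharP.cast_eq_zero, map_zero]
      have h2 := (CharP.cast_eq_zero_iff (ResidueField B) p q).1 h1
      rw [(Nat.prime_dvd_prime_iff_eq hp hqp).1 h2]
      exact charP_of_injective_algebraMap (algebraMap L Ω).injective q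
    · right
      haveI : CharZero L := CharP.charP_to_charZero L
      exact charZero_of_injective_algebraMap (algebraMap L Ω).injective
  rcases hq' with hc | hc
  · haveI : CharP L p := (RingHom.charP_iff (algebraMap L Ω) (algebraMap L Ω).injective p).2 hc
    let N' := IntermediateField.normalClosure L N Ω
    haveI : FiniteDimensional L N' := normalClosure.is_finiteDimensional L N Ω
    haveI : Normal L N' := normalClosure.normal L N Ω
    let S₀ := separableClosure L N'
    let S : IntermediateField L Ω := S₀.map N'.val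
    haveI : FiniteDimensional L S := Module.Finite.equiv (S₀.equivMap N'.val).toLinearEquiv
    haveI : IsGalois L S := IsGalois.of_algEquiv (S₀.equivMap N'.val)
    obtain ⟨E, F, hE, hF, hSF, hT⟩ := exists_tight_galois (A := A) (K := K) hW p hw hk (Or.inl hc) S fun h => by
      haveI := h; exact absurd (CharP.cast_eq_zero Ω p) (Nat.cast_ne_zero.2 hp.ne_zero)
    set d := Module.finrank S₀ N'
    have hpow : ∀ x ∈ N', x ^ p ^ d ∈ F := by
      intro x hx
      obtain ⟨j, y, hj⟩ := IsPurelyInseparable.minpoly_eq_X_pow_sub_C S₀ p (⟨x, hx⟩ : N')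
      have hjd : j ≤ d := by
        have h1 := minpoly.natDegree_le (A := S₀) (⟨x, hx⟩ : N')
        rw [hj, natDegree_X_pow_sub_C] at h1
        exact (Nat.lt_pow_self hp.one_lt).le.trans h1
      have h2 := minpoly.aeval S₀ (⟨x, hx⟩ : N')
      rw [hj, map_sub, map_pow, aeval_X, aeval_C, sub_eq_zero] at h2
      have h3 : x ^ p ^ j = ((algebraMap S₀ N' y : N') : Ω) := congrArg Subtype.val h2
      obtain ⟨i, hi⟩ := Nat.exists_eq_add_of_le hjd
      rw [hi, pow_add, pow_mul, h3]
      exact pow_mem (hSF ⟨(y : N'), y.2, rfl⟩) _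
    obtain ⟨E', hE', hT'⟩ := exists_tight_purelyInseparable hW p hT d N' hpow
    refine ⟨E', _, hE', ?_, (IntermediateField.le_normalClosure N).trans le_sup_left, hT'⟩
    haveI : FiniteDimensional L (IntermediateField.adjoin L (E' : Set Ω)) := by
      have hr : (E' : Set Ω) = Set.range (algebraMap E' Ω) := by ext y; simp
      rw [hr]
      exact (adjoin_range_facts (A := A) (K := K) (L := L) (K₁ := E') (M' := Ω)).1
    exact IntermediateField.finiteDimensional_sup _ _
  · obtain ⟨ζ, hζ⟩ : ∃ ζ : Ω, IsPrimitiveRoot ζ p := by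
      haveI : NeZero ((p : ℕ) : Ω) := ⟨Nat.cast_ne_zero.2 hp.ne_zero⟩
      exact HasEnoughRootsOfUnity.exists_primitiveRoot Ω p
    haveI : CharZero L := (algebraMap L Ω).charZero_iff (algebraMap L Ω).injective |>.2 hc
    haveI : FiniteDimensional L (IntermediateField.adjoin L {ζ}) :=
      IntermediateField.adjoin.finiteDimensional (Algebra.IsIntegral.isIntegral ζ)
    let N₁ := N ⊔ IntermediateField.adjoin L {ζ}
    haveI : FiniteDimensional L N₁ := IntermediateField.finiteDimensional_sup _ _
    let S := IntermediateField.normalClosure L N₁ Ω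
    haveI : FiniteDimensional L S := normalClosure.is_finiteDimensional L N₁ Ω
    haveI : Normal L S := normalClosure.normal L N₁ Ω
    haveI : IsGalois L S := ⟨⟩
    have hζS : ζ ∈ S := IntermediateField.le_normalClosure N₁
      ((le_sup_right : IntermediateField.adjoin L {ζ} ≤ N₁) (IntermediateField.mem_adjoin_simple_self L ζ))
    obtain ⟨E, F, hE, hF, hSF, hT⟩ := exists_tight_galois (A := A) (K := K) hW p hw hk (Or.inr hc) S fun _ =>
      ⟨⟨ζ, hζS⟩, IsPrimitiveRoot.of_map_of_injective (f := S.val) hζ Subtype.val_injective⟩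
    exact ⟨E, F, hE, hF, ((le_sup_left : N ≤ N₁).trans (IntermediateField.le_normalClosure N₁)).trans hSF, hT⟩

end Groth.Agent.EtRam7.Epp
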