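import Groth.Agent.EtRam7.Epp.Basic
import Groth.Agent.EtRam7.Kummer
import Mathlib

/-! The degree `p` step of eliminating ramification. -/

set_option autoImplicit false
set_option linter.style.haveILetI false
set_option linter.unusedSectionVars false
universe u

namespace Groth.Agent.EtRam7.Epp

open IsLocalRing Polynomial

variable {A B K L Ω : Type u} [CommRing A] [IsDomain A] [IsDiscreteValuationRing A]
  [CommRing B] [IsDomain B] [IsDiscreteValuationRing B] [Algebra A B] [IsLocalHom (algebraMap A B)]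
  [Field K] [Field L] [Algebra A K] [IsFractionRing A K] [Algebra B L] [IsFractionRing B L]
  [Algebra K L] [Algebra A L] [IsScalarTower A K L] [IsScalarTower A B L]
  [Field Ω] [Algebra L Ω] [Algebra K Ω] [IsScalarTower K L Ω]
  {W : ValuationSubring Ω} (hW : EtRam.Dominates B ((algebraMap L Ω).comp (algebraMap B L)) W)

theorem mul_lt_one_right' {Γ : Type*} [LinearOrderedCommGroupWithZero Γ] {a b : Γ} (ha : a ≤ 1) (hb : b < 1) :
    a * b < 1 := lt_of_le_of_lt (mul_le_of_le_one_left' ha) hb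

/-- `F(z)` inside `Ω`. -/
theorem restrictScalars_adjoin_singleton (F : IntermediateField L Ω) (z : Ω) :
    (IntermediateField.adjoin F ({z} : Set Ω)).restrictScalars L = F ⊔ IntermediateField.adjoin L {z} :=
  IntermediateField.restrictScalars_adjoin_eq_sup L F {z}

theorem irreducible_of_max {F : IntermediateField L Ω} [IsDiscreteValuationRing (W.comap (algebraMap F Ω))]
    {ϖ : Ω} (hϖF : ϖ ∈ F) (hϖ0 : ϖ ≠ 0) (hϖ1 : W.valuation ϖ < 1)
    (hmax : ∀ x ∈ F, W.valuation x < 1 → W.valuation x ≤ W.valuation ϖ) :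
    Irreducible (⟨⟨ϖ, hϖF⟩, (W.valuation_le_one_iff _).1 hϖ1.le⟩ : W.comap (algebraMap F Ω)) := by
  rw [IsDiscreteValuationRing.irreducible_iff_uniformizer]
  refine le_antisymm (fun x hx => ?_) ((Ideal.span_singleton_le_iff_mem _).2
    ((ValuationSubring.valuation_lt_one_iff _ _).2 ((valuation_lt_one_comap W (algebraMap F Ω)).2 hϖ1)))
  have h1 := hmax _ ((x : F)).2 ((valuation_lt_one_comap W (algebraMap F Ω)).1 ((ValuationSubring.valuation_lt_one_iff _ _).1 hx))
  refine Ideal.mem_span_singleton.2 ⟨⟨(x : F) / ⟨ϖ, hϖF⟩, (W.valuation_le_one_iff _).1 ?_⟩, ?_⟩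
  · rw [map_div₀, map_div₀, div_le_one₀ (zero_lt_iff.2 ((Valuation.ne_zero_iff _).2 hϖ0))]
    exact h1
  · exact Subtype.ext (mul_div_cancel₀ _ (show (⟨ϖ, hϖF⟩ : F) ≠ 0 from fun h => hϖ0 (congrArg Subtype.val h :))).symm

/-- Valuation bound from weak unramifiedness over `W ∩ F`. -/
theorem le_of_map_eq {F : IntermediateField L Ω} [IsDiscreteValuationRing (W.comap (algebraMap F Ω))]
    {ϖ : Ω} (hϖF : ϖ ∈ F) (hϖ0 : ϖ ≠ 0) (hϖ1 : W.valuation ϖ < 1)
    (hmax : ∀ x ∈ F, W.valuation x < 1 → W.valuation x ≤ W.valuation ϖ) (M : IntermediateField F Ω)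
    (h : ∀ [IsLocalHom (((algebraMap F M).comp (W.comap (algebraMap F Ω)).subtype).codRestrict (W.comap (algebraMap M Ω))
        fun x => x.2)],
      (maximalIdeal (W.comap (algebraMap F Ω))).map
        (((algebraMap F M).comp (W.comap (algebraMap F Ω)).subtype).codRestrict (W.comap (algebraMap M Ω)) fun x => x.2) =
        maximalIdeal (W.comap (algebraMap M Ω)))
    {x : Ω} (hxM : x ∈ M) (hx : W.valuation x < 1) : W.valuation x ≤ W.valuation ϖ := by
  set φ := ((algebraMap F M).comp (W.comap (algebraMap F Ω)).subtype).codRestrict (W.comap (algebraMap M Ω)) fun x => x.2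
  haveI : IsLocalHom φ := by
    refine ⟨fun y hy => ?_⟩
    by_contra hn
    exact ((ValuationSubring.valuation_lt_one_iff _ (φ y)).2 ((valuation_lt_one_comap W (algebraMap M Ω)).2
      ((valuation_lt_one_comap W (algebraMap F Ω)).1 ((ValuationSubring.valuation_lt_one_iff _ y).1 hn)))) hy
  have hmem : (⟨⟨x, hxM⟩, (W.valuation_le_one_iff _).1 hx.le⟩ : W.comap (algebraMap M Ω)) ∈
      maximalIdeal (W.comap (algebraMap M Ω)) :=
    (ValuationSubring.valuation_lt_one_iff _ _).2 ((valuation_lt_one_comap W (algebraMap M Ω)).2 hx)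
  rw [← h, (congrArg (Ideal.map φ) (irreducible_of_max hϖF hϖ0 hϖ1 hmax).maximalIdeal_eq).trans
    (by rw [Ideal.map_span, Set.image_singleton]), Ideal.mem_span_singleton] at hmem
  obtain ⟨c, hc⟩ := hmem
  have hxe : x = ϖ * ((c : M) : Ω) := congrArg (fun z => ((Subtype.val z : M) : Ω)) hc
  rw [hxe, map_mul]
  exact mul_le_of_le_one_right' ((W.valuation_le_one_iff _).2 c.2)

include hW in
/-- Adjoining an unramified root keeps tightness. -/
theorem Tight.unramified {E : IntermediateField K Ω} {F : IntermediateField L Ω} [FiniteDimensional L F]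
    (h : Tight W E F) (f : (W.comap (algebraMap F Ω))[X]) (hf : f.Monic)
    (hder : IsUnit (AdjoinRoot.mk f (derivative f))) (z : Ω)
    (hz : (f.map ((algebraMap F Ω).comp (W.comap (algebraMap F Ω)).subtype)).eval z = 0) :
    Tight W E (F ⊔ IntermediateField.adjoin L {z}) := by
  obtain ⟨hEF, ϖ, hϖE, hϖ0, hϖ1, hmax⟩ := h
  haveI := dvr_F hW F
  let OF := W.comap (algebraMap F Ω)
  have hirr := irreducible_of_max (hEF ϖ hϖE) hϖ0 hϖ1 hmax
  let M := IntermediateField.adjoin F ({z} : Set Ω)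
  letI : Algebra OF M := ((algebraMap F M).comp OF.subtype).toAlgebra
  haveI : IsScalarTower OF F M := IsScalarTower.of_algebraMap_eq fun _ => rfl
  let z' : M := ⟨z, IntermediateField.mem_adjoin_simple_self F z⟩
  have hz' : aeval z' f = 0 := by
    apply (algebraMap M Ω).injective
    rw [map_zero, aeval_def, hom_eval₂, ← eval_map]
    exact hz
  have hgen : IntermediateField.adjoin F ({z'} : Set M) = ⊤ := by
    apply IntermediateField.map_injective M.val
    rw [IntermediateField.adjoin_map, Set.image_singleton, ← AlgHom.fieldRange_eq_map, IntermediateField.fieldRange_val]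
    rfl
  have hunr := isUnramifiedExt_of_monic (K := F) f hf hder z' hz' hgen _ hirr
  rw [← restrictScalars_adjoin_singleton]
  refine ⟨fun x hx => IntermediateField.algebraMap_mem M (⟨x, hEF x hx⟩ : F), ϖ, hϖE, hϖ0, hϖ1, fun x hx hx1 => ?_⟩
  refine le_of_map_eq (hEF ϖ hϖE) hϖ0 hϖ1 hmax M (fun {hloc} => ?_) hx hx1
  exact (@hunr (W.comap (algebraMap M Ω)) (dominates_comap _ (algebraMap M Ω) W (dominates_self_comap (algebraMap F Ω) W)) hloc).1

include hW in
/-- A leading term with inseparable residue keeps tightness. -/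
theorem Tight.inseparable (p : ℕ) [Fact p.Prime] [CharP (ResidueField B) p] {E : IntermediateField K Ω}
    {F : IntermediateField L Ω} [FiniteDimensional L F] (hEF : ∀ x ∈ E, x ∈ F) {ϖ : Ω} (hϖE : ϖ ∈ E) (hϖ0 : ϖ ≠ 0)
    (hϖ1 : W.valuation ϖ < 1) (hmax : ∀ x ∈ F, W.valuation x < 1 → W.valuation x ≤ W.valuation ϖ)
    (P : Polynomial Ω) (hP : P.Monic) (hd : P.natDegree = p) (hPF : ∀ i, P.coeff i ∈ F) (hPW : ∀ i, P.coeff i ∈ W)
    {z : Ω} {e : ℕ} (he : 0 < e) (hpe : p ∣ e) {a : Ω} (haF : a ∈ F) (ha : W.valuation a ≤ 1)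
    (hres : ∀ r ∈ F, W.valuation r ≤ 1 → ¬ W.valuation (a - r ^ p) < 1) (hz : P.eval z * ϖ ^ e = a) :
    Tight W E (F ⊔ IntermediateField.adjoin L {z}) := by
  have hp : p.Prime := Fact.out
  haveI := dvr_F hW F
  set OF := W.comap (algebraMap F Ω)
  haveI : CharP (ResidueField OF) p := by
    let f := ((algebraMap L F).comp (algebraMap B L)).codRestrict OF (dominates_F hW F).1
    haveI : IsLocalHom f := isLocalHom_of_dominates _ _ (dominates_F hW F)
    exact (RingHom.charP_iff _ (ResidueField.map f).injective p).1 inferInstance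
  let ι : OF →+* Ω := (algebraMap F Ω).comp OF.subtype
  obtain ⟨P₁, hP₁⟩ : ∃ P₁ : OF[X], P₁.map ι = P := (mem_map_range (f := ι)).2 fun i =>
    ⟨⟨⟨P.coeff i, hPF i⟩, hPW i⟩, rfl⟩
  have hιinj : Function.Injective ι := fun x y h => Subtype.ext (Subtype.ext h)
  have hP₁m : P₁.Monic := monic_of_injective hιinj (hP₁ ▸ hP)
  have hP₁d : P₁.natDegree = p := by rw [← natDegree_map_eq_of_injective hιinj, hP₁, hd]
  let M := IntermediateField.adjoin F ({z} : Set Ω)
  letI : Algebra OF M := ((algebraMap F M).comp OF.subtype).toAlgebra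
  haveI : IsScalarTower OF F M := IsScalarTower.of_algebraMap_eq fun _ => rfl
  let z' : M := ⟨z, IntermediateField.mem_adjoin_simple_self F z⟩
  set ξ : F := ⟨a, haF⟩ / ⟨ϖ, hEF ϖ hϖE⟩ ^ e with hξ
  have hPz : P.eval z = algebraMap F Ω ξ := by
    rw [hξ, map_div₀, map_pow]
    exact (eq_div_iff (pow_ne_zero _ hϖ0)).2 hz
  have hz' : aeval z' P₁ = algebraMap F M ξ := by
    apply (algebraMap M Ω).injective
    rw [aeval_def, hom_eval₂, ← IsScalarTower.algebraMap_apply F M Ω, ← hPz, ← hP₁, eval_map]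
    rfl
  have haz : aeval z (P₁.map OF.subtype - Polynomial.C ξ) = 0 := by
    rw [map_sub, aeval_C, aeval_def, eval₂_map, ← eval_map, hP₁, hPz, sub_self]
  have hmon : (P₁.map OF.subtype - Polynomial.C ξ).Monic := (hP₁m.map _).sub_of_left (lt_of_le_of_lt degree_C_le (by
    rw [degree_eq_natDegree (hP₁m.map _).ne_zero, hP₁m.natDegree_map, hP₁d]; exact_mod_cast hp.pos))
  have hint : IsIntegral F z := ⟨_, hmon, haz⟩
  haveI : FiniteDimensional F M := IntermediateField.adjoin.finiteDimensional hint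
  have hfr : Module.finrank F M ≤ p := by
    rw [IntermediateField.adjoin.finrank hint]
    refine (natDegree_le_of_dvd (minpoly.dvd F z haz) hmon.ne_zero).trans ?_
    rw [natDegree_sub_C, hP₁m.natDegree_map, hP₁d]
  obtain ⟨-, -, hcase⟩ := monic_inseparable (p := p) (A := OF) (K := F) (L := M) hP₁m hP₁d _
    (irreducible_of_max (hEF ϖ hϖE) hϖ0 hϖ1 hmax) he hpe (a := ⟨⟨a, haF⟩, (W.valuation_le_one_iff _).1 ha⟩)
    (fun r hr => hres (r : F) (r : F).2 ((W.valuation_le_one_iff _).2 r.2) (by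
      have h1 : residue OF (⟨⟨a, haF⟩, (W.valuation_le_one_iff _).1 ha⟩ - r ^ p) = 0 := by
        rw [map_sub, map_pow, hr, sub_self]
      exact (valuation_lt_one_comap W (algebraMap F Ω)).1
        ((ValuationSubring.valuation_lt_one_iff _ _).1 ((residue_eq_zero_iff _).1 h1))))
    hz' hfr (by
      show ξ * _ = _
      rw [hξ]
      exact div_mul_cancel₀ _ (pow_ne_zero _ fun h => hϖ0 (congrArg Subtype.val h :)))
  rw [← restrictScalars_adjoin_singleton]
  refine ⟨fun x hx => IntermediateField.algebraMap_mem M (⟨x, hEF x hx⟩ : F), ϖ, hϖE, hϖ0, hϖ1, fun x hx hx1 => ?_⟩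
  refine le_of_map_eq (hEF ϖ hϖE) hϖ0 hϖ1 hmax M (fun {hloc} => ?_) hx hx1
  exact (@hcase (W.comap (algebraMap M Ω)) (dominates_comap _ (algebraMap M Ω) W (dominates_self_comap (algebraMap F Ω) W)) hloc).1

include hW in
/-- Adjoining a root of the uniformizer. -/
theorem Tight.root {E : IntermediateField K Ω} [FiniteDimensional K E] {F : IntermediateField L Ω}
    [FiniteDimensional L F] (hEF : ∀ x ∈ E, x ∈ F) {ϖ : Ω} (hϖE : ϖ ∈ E) (hϖ0 : ϖ ≠ 0)
    (hϖ1 : W.valuation ϖ < 1) (hmax : ∀ x ∈ F, W.valuation x < 1 → W.valuation x ≤ W.valuation ϖ)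
    {P : ℕ} (hP : 0 < P) {t : Ω} (ht : t ^ P = ϖ) :
    ∃ (E₁ : IntermediateField K Ω) (F₁ : IntermediateField L Ω), E ≤ E₁ ∧ FiniteDimensional K E₁ ∧
      FiniteDimensional L F₁ ∧ F₁ = F ⊔ IntermediateField.adjoin L (E₁ : Set Ω) ∧ t ∈ E₁ ∧ (∀ x ∈ E₁, x ∈ F₁) ∧
      W.valuation t < 1 ∧ (∀ x ∈ F₁, W.valuation x < 1 → W.valuation x ≤ W.valuation t) ∧
      ∀ x ∈ F₁, W.valuation x ≤ 1 → ∃ y ∈ F, W.valuation (x - y) < 1 := by
  haveI := dvr_F hW F
  set OF := W.comap (algebraMap F Ω)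
  let M := IntermediateField.adjoin F ({t} : Set Ω)
  letI : Algebra OF M := ((algebraMap F M).comp OF.subtype).toAlgebra
  haveI : IsScalarTower OF F M := IsScalarTower.of_algebraMap_eq fun _ => rfl
  let t' : M := ⟨t, IntermediateField.mem_adjoin_simple_self F t⟩
  have haz : aeval t (X ^ P - Polynomial.C (⟨ϖ, hEF ϖ hϖE⟩ : F)) = 0 := by
    simp [ht, show algebraMap F Ω ⟨ϖ, hEF ϖ hϖE⟩ = ϖ from rfl]
  have hint : IsIntegral F t := ⟨_, monic_X_pow_sub_C _ hP.ne', haz⟩
  haveI : FiniteDimensional F M := IntermediateField.adjoin.finiteDimensional hint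
  have hfr : Module.finrank F M ≤ P := by
    rw [IntermediateField.adjoin.finrank hint]
    exact (natDegree_le_of_dvd (minpoly.dvd F t haz) (monic_X_pow_sub_C _ hP.ne').ne_zero).trans natDegree_X_pow_sub_C.le
  obtain ⟨⟨htot, -⟩, huni⟩ := isTotallyRamified_of_elt' (A := OF) (K := F) (L := M) _
    (irreducible_of_max (hEF ϖ hϖE) hϖ0 hϖ1 hmax) hP t' hfr fun V hV => by
      rw [← map_pow]; congr 1; exact Subtype.ext ht
  have ht1 : W.valuation t < 1 := by
    refine not_le.1 fun h => (not_le.2 hϖ1) ?_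
    rw [← ht, map_pow]; exact one_le_pow₀ h
  let E₁ := E ⊔ IntermediateField.adjoin K {t}
  have hintK : IsIntegral K t := by
    refine IsIntegral.of_pow hP ?_
    rw [ht]
    exact (Algebra.IsIntegral.isIntegral (R := K) (⟨ϖ, hϖE⟩ : E)).map E.val
  haveI : FiniteDimensional K (IntermediateField.adjoin K {t}) := IntermediateField.adjoin.finiteDimensional hintK
  have hE₁ : ∀ x ∈ E₁, x ∈ M.restrictScalars L := by
    have h1 : (E : Set Ω) ⊆ M.restrictScalars L := fun x hx => IntermediateField.algebraMap_mem M (⟨x, hEF x hx⟩ : F)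
    have h2 : E₁ ≤ (M.restrictScalars L).restrictScalars K :=
      sup_le h1 (IntermediateField.adjoin_simple_le_iff.2 (IntermediateField.mem_adjoin_simple_self F t))
    exact fun x hx => h2 hx
  have hFeq : M.restrictScalars L = F ⊔ IntermediateField.adjoin L (E₁ : Set Ω) := by
    refine le_antisymm ?_ (sup_le (fun x hx => IntermediateField.algebraMap_mem M (⟨x, hx⟩ : F))
      (IntermediateField.adjoin_le_iff.2 hE₁))
    rw [restrictScalars_adjoin_singleton]
    exact sup_le_sup_left (IntermediateField.adjoin.mono L _ _ (Set.singleton_subset_iff.2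
      ((le_sup_right : IntermediateField.adjoin K {t} ≤ E₁) (IntermediateField.mem_adjoin_simple_self K t)))) _
  have hdom : EtRam.Dominates OF (algebraMap OF M) (W.comap (algebraMap M Ω)) :=
    dominates_comap _ (algebraMap M Ω) W (dominates_self_comap (algebraMap F Ω) W)
  refine ⟨E₁, M.restrictScalars L, le_sup_left, inferInstance, Module.Finite.trans (R := L) F M, hFeq,
    (le_sup_right : IntermediateField.adjoin K {t} ≤ E₁) (IntermediateField.mem_adjoin_simple_self K t), hE₁, ht1,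
    fun x hx hx1 => ?_, fun x hx hx1 => ?_⟩
  · exact valuation_le_of_comap W (algebraMap M Ω)
      (huni _ hdom (⟨x, hx⟩ : M) ((valuation_lt_one_comap W (algebraMap M Ω)).2 hx1))
  · let xV : W.comap (algebraMap M Ω) := ⟨⟨x, hx⟩, (W.valuation_le_one_iff _).1 hx1⟩
    obtain ⟨a, ha⟩ := htot.2.2 _ hdom (residue _ xV)
    dsimp only at ha
    rw [eq_comm, ← sub_eq_zero, ← map_sub, residue_eq_zero_iff] at ha
    exact ⟨(a : F), (a : F).2, (valuation_lt_one_comap W (algebraMap M Ω)).1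
      ((ValuationSubring.valuation_lt_one_iff _ _).1 ha)⟩

set_option maxHeartbeats 1600000 in
include hW in
/-- The degree `p` step, for a polynomial `Q` behaving like `X ^ p - X` on small pole orders. -/
theorem exists_tight_step (p : ℕ) [Fact p.Prime] [CharP (ResidueField A) p] [IsAlgClosed (ResidueField A)]
    [IsAlgClosed Ω]
    (hk : ∀ x : ResidueField B, (∀ n : ℕ, ∃ y : ResidueField B, y ^ (p ^ n) = x) ↔
      x ∈ Set.range (algebraMap (ResidueField A) (ResidueField B)))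
    {E : IntermediateField K Ω} [FiniteDimensional K E] {F : IntermediateField L Ω} [FiniteDimensional L F]
    (hEF : ∀ x ∈ E, x ∈ F) {ϖ : Ω} (hϖE : ϖ ∈ E) (hϖ0 : ϖ ≠ 0)
    (hϖ1 : W.valuation ϖ < 1) (hmax : ∀ x ∈ F, W.valuation x < 1 → W.valuation x ≤ W.valuation ϖ)
    (Q : Polynomial Ω) (hQ : Q.Monic) (hQd : Q.natDegree = p) (hQE : ∀ i, Q.coeff i ∈ E) (hQW : ∀ i, Q.coeff i ∈ W)
    (l : Ω) (hlE : l ∈ E) (hl1 : W.valuation l < 1)
    (hlam : (1 + Polynomial.C l * X) ^ p = 1 + Polynomial.C (l ^ p) * Q)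
    (c₀ : Ω) (hc₀E : c₀ ∈ E) (hc₀ : W.valuation c₀ = 1)
    (hder : derivative Q = Polynomial.C c₀ * (1 + Polynomial.C l * X) ^ (p - 1))
    (hlaw : ∀ x u : Ω, 1 + l * u ≠ 0 → Q.eval ((x - u) / (1 + l * u)) * (1 + l * u) ^ p = Q.eval x - Q.eval u)
    (n : ℕ) (hlt : W.valuation l ^ p < W.valuation ϖ ^ n) (hl2 : W.valuation l ^ p ≤ W.valuation ϖ ^ (2 * n))
    (hpn : W.valuation (p : Ω) ≤ W.valuation ϖ ^ n)
    (hcong : ∀ u : Ω, W.valuation u ^ p * W.valuation ϖ ^ n ≤ 1 → W.valuation (Q.eval u - (u ^ p - u)) ≤ 1)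
    {z b : Ω} (hbF : b ∈ F) (hb : W.valuation b ≤ 1) (hz : Q.eval z * ϖ ^ n = b) :
    ∃ (E' : IntermediateField K Ω) (F' : IntermediateField L Ω), E ≤ E' ∧ FiniteDimensional K E' ∧
      FiniteDimensional L F' ∧ F ≤ F' ∧ z ∈ F' ∧ Tight W E' F' := by
  classical
  have hp : p.Prime := Fact.out
  haveI hOEd := dvr_E A hW E
  haveI hOFd := dvr_F hW F
  -- the extension `OE → OF` and its residue fields
  let OE := W.comap (algebraMap E Ω)
  let OF := W.comap (algebraMap F Ω)
  let i : OE →+* OF := (((algebraMap E Ω).comp OE.subtype).codRestrict F fun x => hEF _ (x : E).2).codRestrict OF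
    fun x => x.2
  have hiloc : IsLocalHom i := ⟨fun x hx => by
    by_contra hn
    exact ((ValuationSubring.valuation_lt_one_iff _ (i x)).2 ((valuation_lt_one_comap W (algebraMap F Ω)).2
      ((valuation_lt_one_comap W (algebraMap E Ω)).1 ((ValuationSubring.valuation_lt_one_iff _ x).1 hn)))) hx⟩
  letI : Algebra OE OF := i.toAlgebra
  haveI : IsLocalHom (algebraMap OE OF) := hiloc
  haveI : CharP (ResidueField B) p :=
    charP_of_injective_algebraMap (algebraMap (ResidueField A) (ResidueField B)).injective p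
  haveI : CharP (ResidueField OF) p := by
    let f := ((algebraMap L F).comp (algebraMap B L)).codRestrict OF (dominates_F hW F).1
    haveI : IsLocalHom f := isLocalHom_of_dominates _ _ (dominates_F hW F)
    exact (RingHom.charP_iff _ (ResidueField.map f).injective p).1 inferInstance
  have hresF : ∀ x y : OF, residue OF x = residue OF y ↔ W.valuation (((x : F) : Ω) - ((y : F) : Ω)) < 1 := by
    intro x y
    rw [← sub_eq_zero, ← map_sub, residue_eq_zero_iff]
    exact (ValuationSubring.valuation_lt_one_iff _ _).trans (valuation_lt_one_comap W (algebraMap F Ω))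
  have hdA := dominates_A (A := A) (K := K) hW
  have hk' : ∀ x : ResidueField OF, (∀ m : ℕ, ∃ y : ResidueField OF, y ^ (p ^ m) = x) ↔
      x ∈ Set.range (algebraMap (ResidueField OE) (ResidueField OF)) := by
    intro x
    obtain ⟨x, rfl⟩ := residue_surjective x
    constructor
    · intro h
      obtain ⟨a, ha⟩ := exists_sub_lt_F (A := A) (K := K) hW p hk F (x : F).2 ((W.valuation_le_one_iff _).2 x.2) fun m => by
        obtain ⟨y, hy⟩ := h m
        obtain ⟨y, rfl⟩ := residue_surjective y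
        rw [← map_pow, hresF] at hy
        exact ⟨(y : F), (y : F).2, (W.valuation_le_one_iff _).2 y.2, hy⟩
      refine ⟨residue OE ⟨⟨algebraMap K Ω (algebraMap A K a), E.algebraMap_mem _⟩, hdA.1 a⟩, ?_⟩
      refine ((hresF _ _).2 ?_).symm
      exact ha
    · rintro ⟨r, hr⟩ m
      obtain ⟨r, rfl⟩ := residue_surjective r
      obtain ⟨a, ha⟩ := exists_sub_lt_E (A := A) hW E (r : E).2 ((W.valuation_le_one_iff _).2 r.2)
      obtain ⟨y, hy⟩ := IsAlgClosed.exists_pow_nat_eq (residue A a) (pow_pos hp.pos m)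
      obtain ⟨y, rfl⟩ := residue_surjective y
      refine ⟨residue OF ⟨⟨algebraMap K Ω (algebraMap A K y), hEF _ (E.algebraMap_mem _)⟩, hdA.1 y⟩, ?_⟩
      rw [← hr, ← map_pow]
      refine (hresF _ _).2 ?_
      have h1 : W.valuation (algebraMap K Ω (algebraMap A K (y ^ p ^ m - a))) < 1 := hdA.2 _ (by
        rw [← residue_eq_zero_iff, map_sub, map_pow, hy, sub_self])
      rw [map_sub, map_sub, map_pow, map_pow] at h1
      show W.valuation (algebraMap K Ω (algebraMap A K y) ^ p ^ m - ((r : E) : Ω)) < 1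
      rw [show algebraMap K Ω (algebraMap A K y) ^ p ^ m - ((r : E) : Ω) =
        (algebraMap K Ω (algebraMap A K y) ^ p ^ m - algebraMap K Ω (algebraMap A K a)) -
          (((r : E) : Ω) - algebraMap K Ω (algebraMap A K a)) by ring]
      exact W.valuation.map_sub_lt h1 ha
  set π' : OF := ⟨⟨ϖ, hEF ϖ hϖE⟩, (W.valuation_le_one_iff _).1 hϖ1.le⟩
  obtain ⟨k, hnf⟩ := exists_normal_form (p := p) (A := OE) (B := OF)
    (irreducible_of_max (hEF ϖ hϖE) hϖ0 hϖ1 hmax).maximalIdeal_eq hk' n (⟨⟨b, hbF⟩, (W.valuation_le_one_iff _).1 hb⟩ : OF)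
  obtain ⟨t, ht⟩ := IsAlgClosed.exists_pow_nat_eq ϖ (pow_pos hp.pos k)
  obtain ⟨E₁, F₁, hle, hfin₁, hfinF₁, hF₁, htE₁, hE₁F₁, ht1, hmax₁, hres₁⟩ :=
    Tight.root hW hEF hϖE hϖ0 hϖ1 hmax (pow_pos hp.pos k) ht
  have ht0 : t ≠ 0 := by rintro rfl; exact hϖ0 (by rw [← ht, zero_pow (pow_pos hp.pos k).ne'])
  have hFF₁ : F ≤ F₁ := hF₁ ▸ le_sup_left
  set W₁ := W.comap (algebraMap F₁ Ω)
  let g : OF →+* F₁ := ((algebraMap F Ω).comp OF.subtype).codRestrict F₁ fun x => hFF₁ (x : F).2
  let t₁ : F₁ := ⟨t, hE₁F₁ t htE₁⟩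
  have hle1 : ∀ x : F₁, W₁.valuation x ≤ 1 ↔ W.valuation (x : Ω) ≤ 1 := fun x =>
    (W₁.valuation_le_one_iff x).trans (W.valuation_le_one_iff (x : Ω)).symm
  have hdat : RootDatum p π' (p ^ k) n W₁ g t₁ := by
    refine ⟨fun x => x.2, fun h => ht0 (congrArg Subtype.val h :), (valuation_lt_one_comap W (algebraMap F₁ Ω)).2 ht1,
      ?_, ?_, ?_⟩
    · rw [← map_pow]; congr 1; exact Subtype.ext ht.symm
    · rw [show g π' - t₁ ^ p ^ k = 0 from sub_eq_zero.2 (Subtype.ext ht.symm), map_zero]; exact zero_le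
    · have h2 : W₁.valuation ((p : F₁) / g π' ^ n) ≤ 1 := by
        rw [hle1]
        push_cast
        rw [map_div₀, map_pow, show ((g π' : F₁) : Ω) = ϖ from rfl,
          div_le_one₀ (zero_lt_iff.2 (pow_ne_zero _ ((Valuation.ne_zero_iff _).2 hϖ0)))]
        exact hpn
      rwa [map_div₀, div_le_one₀ (zero_lt_iff.2 ?_)] at h2
      rw [Valuation.ne_zero_iff]
      exact pow_ne_zero _ fun h => hϖ0 (congrArg Subtype.val h :)
  -- consequences of small pole order
  have hsmallL : ∀ u : Ω, W.valuation u ^ p * W.valuation ϖ ^ n ≤ 1 → W.valuation (l * u) < 1 := by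
    intro u hu
    refine not_le.1 fun h => ?_
    by_cases hu0 : u = 0
    · rw [hu0, mul_zero, map_zero] at h; exact absurd h (not_le.2 zero_lt_one)
    have h2 := one_le_pow₀ (n := p) h
    rw [map_mul, mul_pow] at h2
    have h3 : W.valuation l ^ p * W.valuation u ^ p < W.valuation ϖ ^ n * W.valuation u ^ p :=
      mul_lt_mul_of_pos_right hlt (pow_pos (zero_lt_iff.2 ((Valuation.ne_zero_iff _).2 hu0)) p)
    exact absurd (h2.trans_lt (h3.trans_le (mul_comm (W.valuation ϖ ^ n) _ ▸ hu))) (lt_irrefl _)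
  have hevalF : ∀ (F' : IntermediateField L Ω), (∀ x ∈ E, x ∈ F') → ∀ u ∈ F', Q.eval u ∈ F' := by
    intro F' hEF' u hu
    rw [eval_eq_sum_range]
    exact sum_mem fun j _ => mul_mem (hEF' _ (hQE j)) (pow_mem hu j)
  have hpowp : ∀ u : Ω, (1 + l * u) ^ p = 1 + l ^ p * Q.eval u := fun u => by
    simpa using congrArg (Polynomial.eval u) hlam
  rcases hnf with ⟨e, d, he, hpe, hd, hAS⟩ | ⟨a, hAS⟩
  · obtain ⟨u, hu, hu'⟩ := hAS F₁ W₁ g t₁ hdat
    have hub : W.valuation (u : Ω) ^ p * W.valuation ϖ ^ n ≤ 1 := by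
      have h1 : (((u ^ p * g π' ^ n : F₁)) : Ω) ∈ W := hu
      rw [← W.valuation_le_one_iff] at h1
      push_cast at h1
      rwa [map_mul, map_pow, map_pow] at h1
    have hlu := hsmallL u hub
    have hv1 : W.valuation (1 + l * u) = 1 := by
      rw [W.valuation.map_add_eq_of_lt_left (by rwa [map_one]), map_one]
    have h1u : 1 + l * (u : Ω) ≠ 0 := fun h => by rw [h, map_zero] at hv1; exact zero_ne_one hv1
    set z' := (z - u) / (1 + l * u)
    set a' : Ω := Q.eval z' * t ^ e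
    have hz'' : Q.eval z' = (b / ϖ ^ n - Q.eval (u : Ω)) / (1 + l * u) ^ p := by
      rw [eq_div_iff (pow_ne_zero _ h1u), hlaw z u h1u, ← hz, mul_div_cancel_right₀ _ (pow_ne_zero _ hϖ0)]
    have hde : W.valuation (a' - ((d : F) : Ω)) < 1 := by
      have h2 : W.valuation (((b / ϖ ^ n - Q.eval (u : Ω)) * t ^ e) - ((d : F) : Ω)) < 1 := by
        have h3 : ((b / ϖ ^ n - Q.eval (u : Ω)) * t ^ e) - ((d : F) : Ω) =
            ((b / ϖ ^ n - ((d : F) : Ω) / t ^ e - ((u : Ω) ^ p - u)) * t ^ (e - 1)) * t -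
              (Q.eval (u : Ω) - ((u : Ω) ^ p - u)) * t ^ e := by
          have hte : t ^ e = t ^ (e - 1) * t := by rw [← pow_succ, Nat.sub_add_cancel he]
          rw [mul_assoc, ← hte]
          field_simp
          ring
        rw [h3]
        refine W.valuation.map_sub_lt ?_ ?_
        · rw [map_mul]
          refine mul_lt_one_right' ((W.valuation_le_one_iff _).2 ?_) ht1
          exact hu'
        · rw [map_mul, map_pow]
          exact mul_lt_one_right' (hcong u hub) (pow_lt_one₀ zero_le ht1 he.ne')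
      have h4 : a' - ((d : F) : Ω) = (((b / ϖ ^ n - Q.eval (u : Ω)) * t ^ e) - ((d : F) : Ω) -
          ((d : F) : Ω) * ((1 + l * u) ^ p - 1)) / (1 + l * u) ^ p := by
        simp only [a', hz'']; field_simp; ring
      rw [h4, map_div₀, map_pow, hv1, one_pow, div_one]
      refine W.valuation.map_sub_lt h2 ?_
      rw [map_mul]
      refine mul_lt_one_right' ((W.valuation_le_one_iff _).2 d.2) ?_
      rw [show (1 + l * (u : Ω)) ^ p - 1 = l * (u : Ω) * ∑ j ∈ Finset.range p, (1 + l * (u : Ω)) ^ j by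
        rw [mul_comm, ← geom_sum_mul]; ring, map_mul]
      exact mul_lt_one_of_nonneg_of_lt_one_left zero_le hlu
        (W.valuation.map_sum_le fun j _ => by rw [map_pow, hv1, one_pow])
    have ha'1 : W.valuation a' ≤ 1 := by
      rw [← sub_add_cancel a' ((d : F) : Ω)]
      exact (W.valuation.map_add _ _).trans (max_le hde.le ((W.valuation_le_one_iff _).2 d.2))
    have ha'F : a' ∈ F₁ := mul_mem (hz'' ▸ div_mem (sub_mem (div_mem (hFF₁ hbF) (pow_mem (hFF₁ (hEF ϖ hϖE)) _))
      (hevalF F₁ (fun x hx => hE₁F₁ x (hle hx)) u u.2))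
      (pow_mem (add_mem (one_mem F₁) (mul_mem (hE₁F₁ l (hle hlE)) u.2)) _)) (pow_mem (hE₁F₁ t htE₁) _)
    have hins := Tight.inseparable hW p hE₁F₁ htE₁ ht0 ht1 hmax₁ Q hQ hQd (fun j => hE₁F₁ _ (hle (hQE j))) hQW he hpe
      ha'F ha'1 (fun r hrF hr1 hr => by
        obtain ⟨y, hyF, hy⟩ := hres₁ r hrF hr1
        have hy1 : W.valuation y ≤ 1 := by
          rw [show y = r - (r - y) by ring]; exact (W.valuation.map_sub _ _).trans (max_le hr1 hy.le)
        refine hd ⟨⟨y, hyF⟩, (W.valuation_le_one_iff _).1 hy1⟩ ?_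
        rw [← map_pow, hresF]
        show W.valuation (((d : F) : Ω) - y ^ p) < 1
        have hpow : W.valuation (r ^ p - y ^ p) < 1 := by
          rw [← geom_sum₂_mul r y p, map_mul]
          refine mul_lt_one_right' (W.valuation.map_sum_le fun j _ => ?_) hy
          rw [map_mul, map_pow, map_pow]
          exact mul_le_one' (pow_le_one₀ zero_le hr1) (pow_le_one₀ zero_le hy1)
        rw [show ((d : F) : Ω) - y ^ p = (a' - r ^ p) - (a' - ((d : F) : Ω)) + (r ^ p - y ^ p) by ring]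
        exact W.valuation.map_add_lt (W.valuation.map_sub_lt hr hde) hpow) (z := z') rfl
    refine ⟨E₁, F₁ ⊔ IntermediateField.adjoin L {z'}, hle, hfin₁, ?_, hFF₁.trans le_sup_left, ?_, hins⟩
    · have hint : IsIntegral L z' := by
        haveI : Algebra.IsAlgebraic L F₁ := inferInstance
        let i₁ : F₁ →+* Ω := algebraMap F₁ Ω
        obtain ⟨Q₁, hQ₁⟩ : ∃ Q₁ : F₁[X], Q₁.map i₁ = Q := (mem_map_range (f := i₁)).2 fun j =>
          ⟨⟨_, hE₁F₁ _ (hle (hQE j))⟩, rfl⟩
        have hQ₁m : Q₁.Monic := monic_of_injective i₁.injective (hQ₁ ▸ hQ)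
        have hev : Q.eval z' ∈ F₁ := hz'' ▸ div_mem (sub_mem (div_mem (hFF₁ hbF) (pow_mem (hFF₁ (hEF ϖ hϖE)) _))
          (hevalF F₁ (fun x hx => hE₁F₁ x (hle hx)) u u.2))
          (pow_mem (add_mem (one_mem F₁) (mul_mem (hE₁F₁ l (hle hlE)) u.2)) _)
        refine isIntegral_trans (A := F₁) z' ⟨Q₁ - Polynomial.C ⟨_, hev⟩, hQ₁m.sub_of_left (lt_of_le_of_lt degree_C_le ?_), ?_⟩
        · rw [degree_eq_natDegree hQ₁m.ne_zero, ← natDegree_map_eq_of_injective i₁.injective, hQ₁, hQd]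
          exact_mod_cast hp.pos
        · rw [eval₂_sub, eval₂_C, ← eval_map, hQ₁]; exact sub_self _
      haveI := IntermediateField.adjoin.finiteDimensional hint
      infer_instance
    · set S := F₁ ⊔ IntermediateField.adjoin L ({z'} : Set Ω)
      have h5 : z = z' * (1 + l * u) + u := by rw [div_mul_cancel₀ _ h1u, sub_add_cancel]
      rw [h5]
      have h6 : ∀ x ∈ F₁, x ∈ S := fun x hx => (le_sup_left : F₁ ≤ S) hx
      exact add_mem (mul_mem ((le_sup_right : _ ≤ S) (IntermediateField.mem_adjoin_simple_self L z'))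
        (add_mem (one_mem _) (mul_mem (h6 _ (hE₁F₁ l (hle hlE))) (h6 _ u.2)))) (h6 _ u.2)
  · obtain ⟨u, hu, hu'⟩ := hAS F₁ W₁ g t₁ hdat
    have hub : W.valuation (u : Ω) ^ p * W.valuation ϖ ^ n ≤ 1 := by
      have h1 : (((u ^ p * g π' ^ n : F₁)) : Ω) ∈ W := hu
      rw [← W.valuation_le_one_iff] at h1
      push_cast at h1
      rwa [map_mul, map_pow, map_pow] at h1
    set α : Ω := ∑ j ∈ Finset.range (n + 1), (((a j : OE) : E) : Ω) / t ^ j
    have hαE : α ∈ E₁ := sum_mem fun j _ => div_mem (hle ((a j : OE) : E).2) (pow_mem htE₁ _)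
    have hα : W.valuation α * W.valuation ϖ ^ n ≤ 1 := by
      rw [← map_pow, ← map_mul, Finset.sum_mul]
      refine W.valuation.map_sum_le fun j hj => (W.valuation_le_one_iff _).2 ?_
      obtain ⟨j', hj'⟩ : ∃ j', p ^ k * n = j + j' := Nat.exists_eq_add_of_le
        ((Nat.le_of_lt_succ (Finset.mem_range.1 hj)).trans (Nat.le_mul_of_pos_left n (pow_pos hp.pos k)))
      rw [← ht, ← pow_mul, hj', pow_add, ← mul_assoc, div_mul_cancel₀ _ (pow_ne_zero _ ht0)]
      exact mul_mem (a j).2 (pow_mem ((W.valuation_le_one_iff _).1 ht1.le) _)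
    obtain ⟨w, hw⟩ := IsAlgClosed.exists_root (Q - Polynomial.C α) (by
      rw [degree_sub_C (by rw [degree_eq_natDegree hQ.ne_zero, hQd]; exact_mod_cast hp.pos),
        degree_eq_natDegree hQ.ne_zero, hQd]
      exact_mod_cast hp.ne_zero)
    have hwα : Q.eval w = α := by simpa [IsRoot.def, sub_eq_zero] using hw
    have hwb : W.valuation w ^ p * W.valuation ϖ ^ n ≤ 1 := by
      have hle1' : W.valuation ϖ ^ n ≤ 1 := pow_le_one₀ zero_le hϖ1.le
      rcases le_or_gt (W.valuation w) 1 with h | h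
      · exact mul_le_one' (pow_le_one₀ zero_le h) hle1'
      refine le_trans (mul_le_mul_left (le_of_eq ?_) _) hα
      rw [← hwα, eval_eq_sum_range, hQd, Finset.sum_range_succ, ← hQd, hQ.coeff_natDegree, one_mul, hQd,
        W.valuation.map_add_eq_of_lt_right, map_pow]
      rw [map_pow]
      refine W.valuation.map_sum_lt' (pow_pos (zero_lt_one.trans h) p) fun j hj => ?_
      rw [map_mul, map_pow]
      exact lt_of_le_of_lt (mul_le_of_le_one_left' ((W.valuation_le_one_iff _).2 (hQW j)))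
        (pow_lt_pow_right₀ h (Finset.mem_range.1 hj))
    have hv1 : ∀ x : Ω, W.valuation x ^ p * W.valuation ϖ ^ n ≤ 1 → W.valuation (1 + l * x) = 1 := fun x hx => by
      rw [W.valuation.map_add_eq_of_lt_left (by rw [map_one]; exact hsmallL x hx), map_one]
    have h1w : 1 + l * w ≠ 0 := fun h => zero_ne_one ((map_zero W.valuation).symm.trans ((congrArg _ h.symm).trans (hv1 w hwb)))
    have h1u : 1 + l * (u : Ω) ≠ 0 := fun h => zero_ne_one ((map_zero W.valuation).symm.trans ((congrArg _ h.symm).trans (hv1 u hub)))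
    set v : Ω := (u : Ω) + w + l * u * w with hv
    have h1v : 1 + l * v = (1 + l * u) * (1 + l * w) := by rw [hv]; ring
    have h1v0 : 1 + l * v ≠ 0 := h1v ▸ mul_ne_zero h1u h1w
    have hQv : Q.eval v = Q.eval (u : Ω) * (1 + l * w) ^ p + Q.eval w := by
      rw [eq_comm, ← eq_sub_iff_add_eq]
      refine Eq.trans ?_ (hlaw v w h1w)
      congr 2
      rw [eq_div_iff h1w, hv]; ring
    set z' := (z - v) / (1 + l * v)
    set c : Ω := Q.eval z'
    have hc : c = (b / ϖ ^ n - Q.eval v) / (1 + l * v) ^ p := by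
      rw [eq_div_iff (pow_ne_zero _ h1v0), hlaw z v h1v0, ← hz, mul_div_cancel_right₀ _ (pow_ne_zero _ hϖ0)]
    have hQu : W.valuation (Q.eval (u : Ω)) * W.valuation ϖ ^ n ≤ 1 := by
      have hn1 : W.valuation ϖ ^ n ≤ 1 := pow_le_one₀ zero_le hϖ1.le
      rw [← sub_add_cancel (Q.eval (u : Ω)) ((u : Ω) ^ p - u)]
      refine (mul_le_mul_left (W.valuation.map_add _ _) _).trans ?_
      rw [max_mul]
      refine max_le (mul_le_one' (hcong u hub) hn1) ?_
      refine (mul_le_mul_left (W.valuation.map_sub _ _) _).trans ?_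
      rw [max_mul, map_pow]
      refine max_le hub ?_
      rcases le_or_gt (W.valuation (u : Ω)) 1 with h | h
      · exact mul_le_one' h hn1
      · exact (mul_le_mul_left (le_self_pow₀ h.le hp.ne_zero) _).trans hub
    have hc1 : W.valuation c ≤ 1 := by
      rw [hc, map_div₀, map_pow, h1v, map_mul, hv1 u hub, hv1 w hwb, one_mul, one_pow, div_one, hQv, hwα,
        hpowp w, hwα, show b / ϖ ^ n - (Q.eval (u : Ω) * (1 + l ^ p * α) + α) =
          (b / ϖ ^ n - α - ((u : Ω) ^ p - u)) - (Q.eval (u : Ω) - ((u : Ω) ^ p - u)) - l ^ p * (Q.eval (u : Ω) * α) by ring]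
      refine (W.valuation.map_sub _ _).trans (max_le ((W.valuation.map_sub _ _).trans (max_le ?_ (hcong u hub))) ?_)
      · refine (W.valuation_le_one_iff _).2 ?_
        have h1 : ((((g ⟨⟨b, hbF⟩, (W.valuation_le_one_iff _).1 hb⟩ / g π' ^ n -
            ∑ j ∈ Finset.range (n + 1), g (algebraMap OE OF (a j)) / t₁ ^ j - (u ^ p - u)) * t₁ ^ 0 : F₁)) : Ω) ∈ W := hu'
        rw [pow_zero, mul_one] at h1
        push_cast at h1
        exact h1
      · rw [map_mul, map_mul, map_pow]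
        calc W.valuation l ^ p * (W.valuation (Q.eval (u : Ω)) * W.valuation α)
            ≤ W.valuation ϖ ^ (2 * n) * (W.valuation (Q.eval (u : Ω)) * W.valuation α) := mul_le_mul_left hl2 _
          _ = (W.valuation (Q.eval (u : Ω)) * W.valuation ϖ ^ n) * (W.valuation α * W.valuation ϖ ^ n) := by
              rw [two_mul, pow_add, mul_mul_mul_comm, mul_comm (W.valuation ϖ ^ n) (W.valuation α),
                mul_comm (W.valuation ϖ ^ n) (W.valuation (Q.eval (u : Ω)))]
          _ ≤ 1 := mul_le_one' hQu hα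
    -- adjoin `w` to `E₁`
    let E₂ := E₁ ⊔ IntermediateField.adjoin K {w}
    have hwint : IsIntegral K w := by
      let i₁ : E₁ →+* Ω := algebraMap E₁ Ω
      obtain ⟨Q₁, hQ₁⟩ : ∃ Q₁ : E₁[X], Q₁.map i₁ = Q := (mem_map_range (f := i₁)).2 fun j => ⟨⟨_, hle (hQE j)⟩, rfl⟩
      have hQ₁m : Q₁.Monic := monic_of_injective i₁.injective (hQ₁ ▸ hQ)
      refine isIntegral_trans (A := E₁) w ⟨Q₁ - Polynomial.C ⟨_, hαE⟩, hQ₁m.sub_of_left (lt_of_le_of_lt degree_C_le ?_), ?_⟩
      · rw [degree_eq_natDegree hQ₁m.ne_zero, ← natDegree_map_eq_of_injective i₁.injective, hQ₁, hQd]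
        exact_mod_cast hp.pos
      · rw [eval₂_sub, eval₂_C, ← eval_map, hQ₁, hwα]; exact sub_self _
    haveI : FiniteDimensional K (IntermediateField.adjoin K {w}) := IntermediateField.adjoin.finiteDimensional hwint
    haveI : FiniteDimensional K E₂ := IntermediateField.finiteDimensional_sup _ _
    have hT₂ := Tight.extend (A := A) hW (le_sup_left : E₁ ≤ E₂) (⟨hE₁F₁, t, htE₁, ht0, ht1, hmax₁⟩ : Tight W E₁ F₁)
    set F₂ := F₁ ⊔ IntermediateField.adjoin L (E₂ : Set Ω)
    haveI : FiniteDimensional L F₂ := by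
      haveI : FiniteDimensional L (IntermediateField.adjoin L (E₂ : Set Ω)) := by
        have hr : (E₂ : Set Ω) = Set.range (algebraMap E₂ Ω) := by ext y; simp
        rw [hr]
        exact (adjoin_range_facts (A := A) (K := K) (L := L) (K₁ := E₂) (M' := Ω)).1
      exact IntermediateField.finiteDimensional_sup _ _
    have hF₁F₂ : F₁ ≤ F₂ := le_sup_left
    have hEF₂ : ∀ x ∈ E, x ∈ F₂ := fun x hx => hF₁F₂ (hFF₁ (hEF x hx))
    have hwF₂ : w ∈ F₂ := (le_sup_right : IntermediateField.adjoin L (E₂ : Set Ω) ≤ F₂)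
      (IntermediateField.subset_adjoin L _ ((le_sup_right : IntermediateField.adjoin K {w} ≤ E₂)
        (IntermediateField.mem_adjoin_simple_self K w)))
    have hvF₂ : v ∈ F₂ := add_mem (add_mem (hF₁F₂ u.2) hwF₂) (mul_mem (mul_mem (hEF₂ l hlE) (hF₁F₂ u.2)) hwF₂)
    have hcF₂ : c ∈ F₂ := hc ▸ div_mem (sub_mem (div_mem (hF₁F₂ (hFF₁ hbF)) (pow_mem (hEF₂ ϖ hϖE) _))
      (hevalF F₂ hEF₂ v hvF₂)) (pow_mem (add_mem (one_mem F₂) (mul_mem (hEF₂ l hlE) hvF₂)) _)
    set O₂ := W.comap (algebraMap F₂ Ω)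
    let ι₂ : O₂ →+* Ω := (algebraMap F₂ Ω).comp O₂.subtype
    have hι₂ : Function.Injective ι₂ := fun x y h => Subtype.ext (Subtype.ext h)
    obtain ⟨Q₂, hQ₂⟩ : ∃ Q₂ : O₂[X], Q₂.map ι₂ = Q := (mem_map_range (f := ι₂)).2 fun j =>
      ⟨⟨⟨Q.coeff j, hEF₂ _ (hQE j)⟩, hQW j⟩, rfl⟩
    let l₂ : O₂ := ⟨⟨l, hEF₂ l hlE⟩, (W.valuation_le_one_iff _).1 hl1.le⟩
    let c₂ : O₂ := ⟨⟨c₀, hEF₂ c₀ hc₀E⟩, (W.valuation_le_one_iff _).1 hc₀.le⟩
    let cc : O₂ := ⟨⟨c, hcF₂⟩, (W.valuation_le_one_iff _).1 hc1⟩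
    have hunitO : ∀ x : O₂, W.valuation (ι₂ x) = 1 → IsUnit x := fun x hx => by
      by_contra hn
      exact absurd hx ((valuation_lt_one_comap W (algebraMap F₂ Ω)).1 ((ValuationSubring.valuation_lt_one_iff _ x).1 hn)).ne
    have hlam₂ : (1 + Polynomial.C l₂ * X) ^ p = 1 + Polynomial.C (l₂ ^ p) * Q₂ := by
      apply map_injective ι₂ hι₂
      simp only [Polynomial.map_pow, Polynomial.map_add, Polynomial.map_one, Polynomial.map_mul, map_C, map_X, hQ₂, map_pow]
      rw [← map_pow Polynomial.C]; exact hlam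
    have hder₂ : derivative Q₂ = Polynomial.C c₂ * (1 + Polynomial.C l₂ * X) ^ (p - 1) := by
      apply map_injective ι₂ hι₂
      rw [← derivative_map, hQ₂, hder]
      simp only [Polynomial.map_pow, Polynomial.map_add, Polynomial.map_one, Polynomial.map_mul, map_C, map_X]
      rfl
    have hQ₂m : Q₂.Monic := monic_of_injective hι₂ (hQ₂ ▸ hQ)
    have hf : (Q₂ - Polynomial.C cc).Monic := hQ₂m.sub_of_left (lt_of_le_of_lt degree_C_le (by
      rw [degree_eq_natDegree hQ₂m.ne_zero, ← natDegree_map_eq_of_injective hι₂, hQ₂, hQd]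
      exact_mod_cast hp.pos))
    have hu₂ : IsUnit (AdjoinRoot.mk (Q₂ - Polynomial.C cc) (derivative (Q₂ - Polynomial.C cc))) := by
      rw [derivative_sub, derivative_C, sub_zero, hder₂, map_mul, map_pow]
      refine IsUnit.mul (AdjoinRoot.mk_C (f := Q₂ - Polynomial.C cc) c₂ ▸ (hunitO c₂ hc₀).map (AdjoinRoot.of _))
        (IsUnit.pow _ ?_)
      refine (isUnit_pow_iff hp.ne_zero).1 ?_
      rw [← map_pow, hlam₂, show AdjoinRoot.mk (Q₂ - Polynomial.C cc) (1 + Polynomial.C (l₂ ^ p) * Q₂) =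
        AdjoinRoot.of (Q₂ - Polynomial.C cc) (1 + l₂ ^ p * cc) by
        rw [← AdjoinRoot.mk_C, AdjoinRoot.mk_eq_mk]
        exact ⟨Polynomial.C (l₂ ^ p), by rw [map_add, map_one, map_mul]; ring⟩]
      refine (hunitO _ ?_).map _
      rw [map_add, map_one, map_mul, map_pow, W.valuation.map_add_eq_of_lt_left, map_one]
      rw [map_one, map_mul, map_pow]
      exact mul_lt_one_of_nonneg_of_lt_one_left zero_le (pow_lt_one₀ zero_le hl1 hp.ne_zero) hc1
    have hT₃ := Tight.unramified hW hT₂ (Q₂ - Polynomial.C cc) hf hu₂ z' (by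
      rw [Polynomial.map_sub, map_C, hQ₂, eval_sub, eval_C]; exact sub_self c)
    refine ⟨E₂, F₂ ⊔ IntermediateField.adjoin L {z'}, hle.trans le_sup_left, inferInstance, ?_,
      (hFF₁.trans hF₁F₂).trans le_sup_left, ?_, hT₃⟩
    · have hint : IsIntegral L z' := by
        haveI : Algebra.IsAlgebraic L F₂ := inferInstance
        refine isIntegral_trans (A := F₂) z' ⟨(Q₂ - Polynomial.C cc).map O₂.subtype, hf.map _, ?_⟩
        rw [eval₂_map, ← eval_map]
        show (Polynomial.map ι₂ _).eval z' = 0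
        rw [Polynomial.map_sub, map_C, hQ₂, eval_sub, eval_C]
        exact sub_self c
      haveI := IntermediateField.adjoin.finiteDimensional hint
      exact IntermediateField.finiteDimensional_sup _ _
    · set S := F₂ ⊔ IntermediateField.adjoin L ({z'} : Set Ω)
      have h5 : z = z' * (1 + l * v) + v := by rw [div_mul_cancel₀ _ h1v0, sub_add_cancel]
      rw [h5]
      have h6 : ∀ x ∈ F₂, x ∈ S := fun x hx => (le_sup_left : F₂ ≤ S) hx
      exact add_mem (mul_mem ((le_sup_right : _ ≤ S) (IntermediateField.mem_adjoin_simple_self L z'))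
        (add_mem (one_mem _) (mul_mem (h6 _ (hEF₂ l hlE)) (h6 _ hvF₂)))) (h6 _ hvF₂)

end Groth.Agent.EtRam7.Epp
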